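import Mathlib
import Cfsg.Agent.H209.EPX.Defs_m3
import Cfsg.Prelude.Def_LieTypeChar
import Cfsg.Prelude.Def_Classification2
import Cfsg.Prelude.Def_Spor_J2
import Cfsg.Agent.H528.EP.UB3_m3
import Cfsg.Agent.H290.ElCross
import Cfsg.Agent.H364.LieNam
import Cfsg.Agent.H912.KnownSplit
import Cfsg.Agent.H902.DomLU_m3
import Cfsg.Agent.Prune
set_option linter.all false

section
prune_inst 0x7fffa8ffbbfbf9dfffff7e7fa796cffc3b969fffe6dff94bbfe02bffab9f231209e57bad0de030fe1e82c01c10b87843f97eeeffe86bd87ffffd1df45ffbee1ff5f6bd0871978c341fbc2ff783f0778e7f3fffffffffffffffffffffffffffbeffbfffffffff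

-- part: H357/EP/Signs
section
prune_inst 0x4500000400000000018050682001c0282000002004b04000c40000005c84c6028412e0120a0041752b00c5028310048111000000228000000200000000400001000000081080000200086000880000000000000000000000000000000000000000000000
set_option linter.all false
open scoped Cfsg.Agent.FastGrp

/-!
# Elementary abelian 2-groups of matrices in odd characteristic: signs (helper357, for S5745)

* `exists_diag` : commuting involutions have a common eigenbasis;
* `exists_signs` : for `φ : E →* GL ι F`, `E` elementary abelian, there are `χ : κ → E → ℤ`, `|κ| = |ι|`, with values `±1`,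
  multiplicative, such that the rank of `φ x - 1` is the number of `i` with `χ i x = -1`;
* `sum_beta`, `sum_sq` : the sums of `n - 2 rank (φ x - 1)` and of its square over `E`.
-/

set_option autoImplicit false

namespace Cfsg.Agent.H357.EP

open Module

section diag

universe u v

variable {F : Type u} [Field F] {E : Type*}

theorem exists_diag (h2 : (2 : F) ≠ 0) (n : ℕ) : ∀ (V : Type v) [AddCommGroup V] [Module F V] [FiniteDimensional F V],
    finrank F V = n → ∀ f : E → V →ₗ[F] V, (∀ x v, f x (f x v) = v) → (∀ x y v, f x (f y v) = f y (f x v)) →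
    ∃ (κ : Type) (_ : Fintype κ) (b : Basis κ F V) (s : κ → E → Bool),
      ∀ i x, f x (b i) = (if s i x then (-1 : F) else 1) • b i := by
  induction n using Nat.strong_induction_on with
  | _ n ih =>
  intro V _ _ _ hn f hf hc
  classical
  by_cases hsc : ∀ x, (∀ v, f x v = v) ∨ ∀ v, f x v = -v
  · refine ⟨Fin n, inferInstance, finBasisOfFinrankEq F V hn, fun _ x => decide (¬ ∀ v, f x v = v), ?_⟩
    intro i x
    by_cases hx : ∀ v, f x v = v
    · rw [if_neg (by simpa using hx), one_smul, hx]
    · rw [if_pos (by simpa using hx), neg_smul, one_smul]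
      exact (hsc x).resolve_left hx _
  push Not at hsc
  obtain ⟨x, ⟨v1, hv1⟩, v2, hv2⟩ := hsc
  set P : Submodule F V := LinearMap.ker (f x - LinearMap.id) with hP
  set M : Submodule F V := LinearMap.ker (f x + LinearMap.id) with hM
  have mP : ∀ v, v ∈ P ↔ f x v = v := fun v => by
    rw [hP, LinearMap.mem_ker, LinearMap.sub_apply, LinearMap.id_apply, sub_eq_zero]
  have mM : ∀ v, v ∈ M ↔ f x v = -v := fun v => by
    rw [hM, LinearMap.mem_ker, LinearMap.add_apply, LinearMap.id_apply, add_eq_zero_iff_eq_neg]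
  have hcompl : IsCompl P M := by
    constructor
    · rw [Submodule.disjoint_def]
      intro v h1 h2'
      rw [mP] at h1
      rw [mM, h1] at h2'
      have h3 : (2 : F) • v = 0 := by
        rw [two_smul]
        nth_rewrite 1 [h2']
        exact neg_add_cancel v
      exact (smul_eq_zero.1 h3).resolve_left h2
    · rw [codisjoint_iff, eq_top_iff]
      intro v _
      have e : v = (2 : F)⁻¹ • (v + f x v) + (2 : F)⁻¹ • (v - f x v) := by
        rw [← smul_add, add_add_sub_cancel, ← two_smul F v, smul_smul, inv_mul_cancel₀ h2, one_smul]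
      rw [e]
      refine Submodule.add_mem_sup (P.smul_mem _ ?_) (M.smul_mem _ ?_)
      · rw [mP, map_add, hf, add_comm]
      · rw [mM, map_sub, hf, neg_sub]
  have hPne : P ≠ ⊤ := fun h => hv1 ((mP v1).1 (h ▸ Submodule.mem_top))
  have hMne : M ≠ ⊤ := fun h => hv2 ((mM v2).1 (h ▸ Submodule.mem_top))
  have hPlt : finrank F P < n := hn ▸ Submodule.finrank_lt hPne
  have hMlt : finrank F M < n := hn ▸ Submodule.finrank_lt hMne
  have iP : ∀ y, ∀ v ∈ P, f y v ∈ P := fun y v hv => by
    rw [mP] at hv ⊢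
    rw [hc, hv]
  have iM : ∀ y, ∀ v ∈ M, f y v ∈ M := fun y v hv => by
    rw [mM] at hv ⊢
    rw [hc, hv, map_neg]
  obtain ⟨κ1, i1, b1, s1, h1⟩ := ih _ hPlt P rfl (fun y => (f y).restrict (iP y)) (fun y v => Subtype.ext (hf y v))
    (fun y z v => Subtype.ext (hc y z v))
  obtain ⟨κ2, i2, b2, s2, h2'⟩ := ih _ hMlt M rfl (fun y => (f y).restrict (iM y)) (fun y v => Subtype.ext (hf y v))
    (fun y z v => Subtype.ext (hc y z v))
  refine ⟨κ1 ⊕ κ2, inferInstance, (b1.prod b2).map (Submodule.prodEquivOfIsCompl P M hcompl),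
    Sum.elim s1 s2, ?_⟩
  rintro (i | i) y
  · have h3 : ((b1.prod b2).map (Submodule.prodEquivOfIsCompl P M hcompl)) (Sum.inl i) = (b1 i : V) := by
      simp
    rw [h3]
    exact congrArg Subtype.val (h1 i y)
  · have h3 : ((b1.prod b2).map (Submodule.prodEquivOfIsCompl P M hcompl)) (Sum.inr i) = (b2 i : V) := by
      simp
    rw [h3]
    exact congrArg Subtype.val (h2' i y)

end diag

section signs

variable {F : Type*} [Field F] {E : Type*} [Group E] {ι : Type*} [Fintype ι] [DecidableEq ι]

theorem exists_signs (h2 : (2 : F) ≠ 0) (hE : ∀ x : E, x * x = 1) (φ : E →* Matrix.GeneralLinearGroup ι F) :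
    ∃ (κ : Type) (_ : Fintype κ) (χ : κ → E → ℤ), Fintype.card κ = Fintype.card ι ∧
      (∀ i x, χ i x = 1 ∨ χ i x = -1) ∧ (∀ i x y, χ i (x * y) = χ i x * χ i y) ∧
      ∀ x, ((Fintype.card ι : ℤ) - 2 * (((φ x : Matrix ι ι F) - 1).rank : ℤ)) = ∑ i, χ i x := by
  classical
  have hcomm : ∀ x y : E, x * y = y * x := by
    intro x y
    have h1 : (x * y)⁻¹ = x * y := inv_eq_of_mul_eq_one_right (hE (x * y))
    rw [mul_inv_rev, inv_eq_of_mul_eq_one_right (hE x), inv_eq_of_mul_eq_one_right (hE y)] at h1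
    exact h1.symm
  obtain ⟨κ, iκ, b, s, hs⟩ := exists_diag (E := E) h2 (finrank F (ι → F)) (ι → F) rfl
    (fun x => Matrix.toLin' (φ x : Matrix ι ι F))
    (fun x v => by
      rw [Matrix.toLin'_apply, Matrix.toLin'_apply, Matrix.mulVec_mulVec, ← Units.val_mul, ← map_mul, hE, map_one,
        Units.val_one, Matrix.one_mulVec])
    (fun x y v => by
      rw [Matrix.toLin'_apply, Matrix.toLin'_apply, Matrix.toLin'_apply, Matrix.toLin'_apply, Matrix.mulVec_mulVec,
        Matrix.mulVec_mulVec, ← Units.val_mul, ← Units.val_mul, ← map_mul, ← map_mul, hcomm])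
  have hne : (-1 : F) ≠ 1 := by
    intro h
    apply h2
    rw [← one_add_one_eq_two]
    nth_rewrite 1 [← h]
    exact neg_add_cancel 1
  have hxor : ∀ i x y, s i (x * y) = (s i x ^^ s i y) := by
    intro i x y
    have h1 := hs i (x * y)
    have h3 : Matrix.toLin' (φ (x * y) : Matrix ι ι F) (b i) =
        Matrix.toLin' (φ x : Matrix ι ι F) (Matrix.toLin' (φ y : Matrix ι ι F) (b i)) := by
      rw [Matrix.toLin'_apply, Matrix.toLin'_apply, Matrix.toLin'_apply, Matrix.mulVec_mulVec, ← Units.val_mul, map_mul]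
    rw [h3, hs i y, map_smul, hs i x, smul_smul] at h1
    have h4 := smul_left_injective F (b.ne_zero i) h1
    rcases hx : s i x with _ | _ <;> rcases hy : s i y with _ | _ <;> rcases hxy : s i (x * y) with _ | _ <;>
      simp [hx, hy, hxy, hne, hne.symm] at h4 ⊢
  refine ⟨κ, iκ, fun i x => if s i x then -1 else 1, ?_, ?_, ?_, ?_⟩
  · rw [← finrank_eq_card_basis b, Module.finrank_fintype_fun_eq_card]
  · intro i x
    by_cases h : s i x
    · right; simp [h]
    · left; simp [h]
  · intro i x y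
    dsimp only
    rw [hxor]
    rcases hx : s i x with _ | _ <;> rcases hy : s i y with _ | _ <;> simp
  · intro x
    have hr : ((φ x : Matrix ι ι F) - 1).rank = (Finset.univ.filter fun i => s i x = true).card := by
      have h1 : LinearMap.toMatrix b b (Matrix.toLin' ((φ x : Matrix ι ι F) - 1)) =
          Matrix.diagonal fun i => if s i x then (-2 : F) else 0 := by
        ext i j
        rw [LinearMap.toMatrix_apply, map_sub, LinearMap.sub_apply, hs j x, Matrix.toLin'_one, LinearMap.id_apply]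
        rw [map_sub, map_smul, Basis.repr_self]
        by_cases hij : i = j
        · subst hij
          rw [Matrix.diagonal_apply_eq]
          rcases hx : s i x with _ | _
          · simp
          · simp
            norm_num
        · rw [Matrix.diagonal_apply_ne _ hij]
          by_cases hx : s j x <;> simp [hx, Finsupp.single_apply, Ne.symm hij]
      have h3 : ((φ x : Matrix ι ι F) - 1).rank = (LinearMap.toMatrix b b (Matrix.toLin' ((φ x : Matrix ι ι F) - 1))).rank := by
        rw [Matrix.rank_eq_finrank_range_toLin _ b b, Matrix.toLin_toMatrix]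
        rfl
      rw [h3, h1, Matrix.rank_diagonal, Fintype.card_subtype]
      congr 1
      ext i
      rcases hx : s i x with _ | _
      · simp [hx]
      · simp [hx, h2]
    have hcard : (Fintype.card ι : ℤ) = ∑ i : κ, (1 : ℤ) := by
      rw [← Module.finrank_fintype_fun_eq_card F, finrank_eq_card_basis b]
      simp
    rw [hr, hcard, Finset.card_filter]
    push_cast
    rw [Finset.mul_sum, ← Finset.sum_sub_distrib]
    apply Finset.sum_congr rfl
    intro i _
    by_cases h : s i x
    · simp [h]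
    · simp [h]

end signs

/-! ### Sums -/

section sums

variable {E : Type*} [Group E] [Fintype E] {κ : Type*} [Fintype κ]

/-- the sum of a sign character -/
theorem sum_chi {χ : E → ℤ} (h1 : ∀ x, χ x = 1 ∨ χ x = -1) (hm : ∀ x y, χ (x * y) = χ x * χ y) :
    ∑ x, χ x = Fintype.card E ∨ ∑ x, χ x = 0 := by
  by_cases h : ∀ x, χ x = 1
  · left
    simp [h]
  · right
    push Not at h
    obtain ⟨y, hy⟩ := h
    have hy' : χ y = -1 := (h1 y).resolve_left hy
    have h2 : ∑ x, χ x = ∑ x, χ (y * x) := (Equiv.sum_comp (Equiv.mulLeft y) χ).symm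
    simp only [hm, hy', neg_mul, one_mul, Finset.sum_neg_distrib] at h2
    omega

theorem sum_beta {χ : κ → E → ℤ} (h1 : ∀ i x, χ i x = 1 ∨ χ i x = -1) (hm : ∀ i x y, χ i (x * y) = χ i x * χ i y) :
    ∃ m : ℕ, ∑ x, ∑ i, χ i x = Fintype.card E * (m : ℤ) := by
  classical
  refine ⟨(Finset.univ.filter fun i => ∑ x, χ i x = Fintype.card E).card, ?_⟩
  rw [Finset.sum_comm, Finset.card_filter]
  push_cast
  rw [Finset.mul_sum]
  apply Finset.sum_congr rfl
  intro i _
  rcases sum_chi (h1 i) (hm i) with h | h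
  · rw [if_pos h, h, mul_one]
  · rw [h, if_neg, mul_zero]
    have := Fintype.card_pos (α := E)
    omega

theorem sum_sq {χ : κ → E → ℤ} (h1 : ∀ i x, χ i x = 1 ∨ χ i x = -1) (hm : ∀ i x y, χ i (x * y) = χ i x * χ i y) :
    (Fintype.card κ : ℤ) * Fintype.card E ≤ ∑ x, (∑ i, χ i x) ^ 2 := by
  classical
  have h2 : ∑ x, (∑ i, χ i x) ^ 2 = ∑ i, ∑ j, ∑ x, χ i x * χ j x := by
    simp_rw [sq, Finset.sum_mul_sum]
    rw [Finset.sum_comm]
    apply Finset.sum_congr rfl
    intro i _
    rw [Finset.sum_comm]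
  rw [h2]
  have h3 : (Fintype.card κ : ℤ) * Fintype.card E = ∑ _i : κ, (Fintype.card E : ℤ) := by simp
  rw [h3]
  apply Finset.sum_le_sum
  intro i _
  have h4 : ∀ j, 0 ≤ ∑ x, χ i x * χ j x := by
    intro j
    rcases sum_chi (χ := fun x => χ i x * χ j x) (fun x => by
      rcases h1 i x with h | h <;> rcases h1 j x with h' | h' <;> simp [h, h']) (fun x y => by
      simp only [hm]; ring) with h | h
    · rw [h]; positivity
    · exact h.ge
  have h5 : ∑ x, χ i x * χ i x = Fintype.card E := by
    have : ∀ x, χ i x * χ i x = 1 := fun x => by rcases h1 i x with h | h <;> simp [h]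
    simp [this]
  calc (Fintype.card E : ℤ) = ∑ x, χ i x * χ i x := h5.symm
    _ ≤ ∑ j, ∑ x, χ i x * χ j x := Finset.single_le_sum (fun j _ => h4 j) (Finset.mem_univ i)

end sums

end Cfsg.Agent.H357.EP
end

-- part: H898/EPX/LSk
section
prune_inst 0x10040040200000001800800300000010000002004000004000010409480000004100010c000402101204801800002811100020420000000a000000000000208002500402000004040001000000000000000000000000000000000000000000000000000
set_option linter.all false
open scoped Cfsg.Agent.FastGrp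

/-!
# Powers of simple groups in linear groups (helper898; S5745, socle `T^k`)

`lsk`: if `T^k` (`T` nonabelian simple) embeds in `GL_n(F)`, `F` a finite field of characteristic `p`, then `T` embeds in `GL_(n/k)(F')` for some
finite field `F'` of characteristic `p`.
-/

set_option autoImplicit false

namespace Cfsg.Agent.H898.EPX

open Module

universe u

section schur

variable {K : Type u} [Field K] [IsAlgClosed K] {U V : Type u} [AddCommGroup U] [Module K U] [FiniteDimensional K U]
  [AddCommGroup V] [Module K V] {T : Type*} [Group T] {σ : T →* Module.End K U} {τ : T →* Module.End K V}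

/-- irreducibility -/
def Irr (σ : T →* Module.End K U) : Prop :=
  ∀ W : Submodule K U, (∀ x, ∀ w ∈ W, σ x w ∈ W) → W = ⊥ ∨ W = ⊤

/-- Schur's lemma -/
theorem schur [Nontrivial U] (hσ : Irr σ) (α : Module.End K U) (hα : ∀ x w, α (σ x w) = σ x (α w)) :
    ∃ c : K, ∀ w, α w = c • w := by
  obtain ⟨c, hc⟩ := Module.End.exists_eigenvalue α
  refine ⟨c, ?_⟩
  rcases hσ (Module.End.eigenspace α c) (by
    intro x w hw
    rw [Module.End.mem_eigenspace_iff] at hw ⊢
    rw [hα, hw, map_smul]) with h | h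
  · exact absurd h hc
  · intro w
    have : w ∈ Module.End.eigenspace α c := by rw [h]; trivial
    exact Module.End.mem_eigenspace_iff.1 this

/-- linearly independent equivariant maps have independent images -/
theorem rel [Nontrivial U] (hσ : Irr σ) : ∀ (d : ℕ) (φ : Fin d → (U →ₗ[K] V)), (∀ i x u, φ i (σ x u) = τ x (φ i u)) →
    LinearIndependent K φ → ∀ u : Fin d → U, ∑ i, φ i (u i) = 0 → u = 0 := by
  intro d
  induction d with
  | zero =>
    intro φ _ _ u _
    exact Subsingleton.elim _ _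
  | succ d ih =>
    intro φ hφ hli u hu
    by_contra hu0
    have hli' : LinearIndependent K (fun i : Fin d => φ i.succ) := hli.comp Fin.succ (Fin.succ_injective d)
    have ih' := ih (fun i => φ i.succ) (fun i => hφ i.succ) hli'
    let S : (Fin (d + 1) → U) →ₗ[K] V := ∑ i, (φ i).comp (LinearMap.proj i)
    have hS : ∀ w : Fin (d + 1) → U, S w = ∑ i, φ i (w i) := by
      intro w
      simp only [S, _root_.LinearMap.coe_sum, _root_.LinearMap.coe_comp, _root_.LinearMap.coe_proj, _root_.Finset.sum_apply, _root_.Function.comp_apply, _root_.Function.eval]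
    set R : Submodule K (Fin (d + 1) → U) := LinearMap.ker S with hR
    have hRm : ∀ w, w ∈ R ↔ ∑ i, φ i (w i) = 0 := by
      intro w
      rw [hR, LinearMap.mem_ker, hS]
    have hRi : ∀ x, ∀ w ∈ R, (fun i => σ x (w i)) ∈ R := by
      intro x w hw
      rw [hRm] at hw ⊢
      simp only [hφ]
      rw [← map_sum, hw, map_zero]
    have hR0 : ∀ w ∈ R, w 0 = 0 → w = 0 := by
      intro w hw h0
      rw [hRm, Fin.sum_univ_succ, h0, map_zero, zero_add] at hw
      have h1 := ih' (fun i => w i.succ) hw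
      funext i
      refine Fin.cases h0 (fun i => ?_) i
      exact congrFun h1 i
    -- the projection onto the first coordinate
    let P : R →ₗ[K] U := (LinearMap.proj 0).comp R.subtype
    have hPinj : Function.Injective P := by
      rw [injective_iff_map_eq_zero]
      intro w hw
      exact Subtype.ext (hR0 w w.2 hw)
    have hPr : LinearMap.range P = ⊤ := by
      rcases hσ (LinearMap.range P) (by
        rintro x _ ⟨w, rfl⟩
        exact ⟨⟨_, hRi x w w.2⟩, rfl⟩) with h | h
      · exfalso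
        apply hu0
        apply hR0 u ((hRm u).2 hu)
        have h1 : P ⟨u, (hRm u).2 hu⟩ ∈ LinearMap.range P := LinearMap.mem_range_self _ _
        rw [h, Submodule.mem_bot] at h1
        exact h1
      · exact h
    let e : R ≃ₗ[K] U := LinearEquiv.ofBijective P ⟨hPinj, LinearMap.range_eq_top.1 hPr⟩
    have he0 : ∀ w : U, (e.symm w : Fin (d + 1) → U) 0 = w := fun w => e.apply_symm_apply w
    have hex : ∀ x w, (e.symm (σ x w) : Fin (d + 1) → U) = fun i => σ x ((e.symm w : Fin (d + 1) → U) i) := by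
      intro x w
      have h1 : e.symm (σ x w) = ⟨_, hRi x (e.symm w) (e.symm w).2⟩ := by
        rw [LinearEquiv.symm_apply_eq]
        change σ x w = σ x ((e.symm w : Fin (d + 1) → U) 0)
        rw [he0]
      rw [h1]
    have hsc : ∀ i, ∃ c : K, ∀ w, (e.symm w : Fin (d + 1) → U) i = c • w := by
      intro i
      refine schur hσ ((LinearMap.proj i).comp (R.subtype.comp e.symm.toLinearMap)) ?_
      intro x w
      exact congrFun (hex x w) i
    choose c hc using hsc
    have h1 : ∑ i, c i • φ i = 0 := by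
      ext w
      rw [LinearMap.sum_apply, LinearMap.zero_apply, ← (hRm _).1 (e.symm w).2]
      refine Finset.sum_congr rfl fun i _ => ?_
      rw [hc, map_smul, LinearMap.smul_apply]
    have h2 := Fintype.linearIndependent_iff.1 hli c h1 0
    obtain ⟨w, hw⟩ := exists_ne (0 : U)
    have h3 := hc 0 w
    rw [he0, h2, zero_smul] at h3
    exact hw h3

/-- the space of equivariant maps -/
def Hm (σ : T →* Module.End K U) (τ : T →* Module.End K V) : Submodule K (U →ₗ[K] V) where
  carrier := {φ | ∀ x u, φ (σ x u) = τ x (φ u)}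
  zero_mem' := fun x u => by simp only [_root_.LinearMap.zero_apply, _root_.map_zero]
  add_mem' := fun {a b} ha hb x u => by rw [LinearMap.add_apply, LinearMap.add_apply, ha, hb, map_add]
  smul_mem' := fun c a ha x u => by rw [LinearMap.smul_apply, LinearMap.smul_apply, ha, map_smul]

theorem dim_mul_le [FiniteDimensional K V] [Nontrivial U] (hσ : Irr σ) :
    finrank K (Hm σ τ) * finrank K U ≤ finrank K V := by
  set d := finrank K (Hm σ τ) with hd
  let b := Module.finBasis K (Hm σ τ)
  let φ : Fin d → (U →ₗ[K] V) := fun i => (b i : U →ₗ[K] V)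
  have hli : LinearIndependent K φ := b.linearIndependent.map' (Hm σ τ).subtype (Submodule.ker_subtype _)
  let S : (Fin d → U) →ₗ[K] V := ∑ i, (φ i).comp (LinearMap.proj i)
  have hS : ∀ w : Fin d → U, S w = ∑ i, φ i (w i) := by
    intro w
    simp only [S, _root_.LinearMap.coe_sum, _root_.LinearMap.coe_comp, _root_.LinearMap.coe_proj, _root_.Finset.sum_apply, _root_.Function.comp_apply, _root_.Function.eval]
  have hinj : Function.Injective S := by
    rw [injective_iff_map_eq_zero]
    intro w hw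
    rw [hS] at hw
    exact rel (τ := τ) hσ d φ (fun i => (b i).2) hli w hw
  have h1 := LinearMap.finrank_le_finrank_of_injective hinj
  rwa [Module.finrank_pi_fintype, Finset.sum_const, Finset.card_univ, Fintype.card_fin, smul_eq_mul] at h1

end schur

section reps

variable {K : Type u} [Field K] {V : Type u} [AddCommGroup V] [Module K V] {T : Type*} [Group T]

/-- restriction -/
def rs (ρ : T →* Module.End K V) (W : Submodule K V) (hW : ∀ x, ∀ w ∈ W, ρ x w ∈ W) : T →* Module.End K W where
  toFun x := (ρ x).restrict (hW x)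
  map_one' := by
    ext w
    rw [LinearMap.coe_restrict_apply, map_one]
    rfl
  map_mul' a b := by
    ext w
    rw [LinearMap.coe_restrict_apply, map_mul]
    rfl

/-- quotient -/
def qt (ρ : T →* Module.End K V) (W : Submodule K V) (hW : ∀ x, ∀ w ∈ W, ρ x w ∈ W) : T →* Module.End K (V ⧸ W) where
  toFun x := W.mapQ W (ρ x) (hW x)
  map_one' := by
    ext v
    simp only [_root_.map_one, _root_.LinearMap.coe_comp, _root_.Function.comp_apply, _root_.Submodule.mkQ_apply, _root_.Submodule.mapQ_apply, _root_.Module.End.one_apply]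
  map_mul' a b := by
    ext v
    simp only [_root_.map_mul, _root_.LinearMap.coe_comp, _root_.Function.comp_apply, _root_.Submodule.mkQ_apply, _root_.Submodule.mapQ_apply, _root_.Module.End.mul_apply]

theorem inj_of_ne [IsSimpleGroup T] {M : Type*} [Monoid M] {ρ : T →* M} (h : ρ ≠ 1) : Function.Injective ρ := by
  rw [← MonoidHom.ker_eq_bot_iff]
  rcases IsSimpleGroup.eq_bot_or_eq_top_of_normal ρ.ker inferInstance with h1 | h1
  · exact h1
  · exfalso
    apply h
    ext x
    have : x ∈ ρ.ker := by rw [h1]; trivial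
    exact MonoidHom.mem_ker.1 this

theorem eq_one_of_comm [IsSimpleGroup T] (hna : ∃ a b : T, a * b ≠ b * a) {M : Type*} [Monoid M] {ρ : T →* M}
    (h : ∀ x y, ρ x * ρ y = ρ y * ρ x) : ρ = 1 := by
  by_contra h1
  obtain ⟨a, b, hab⟩ := hna
  apply hab
  apply inj_of_ne h1
  rw [map_mul, map_mul, h]

theorem triv_of [IsSimpleGroup T] (hna : ∃ a b : T, a * b ≠ b * a) (ρ : T →* Module.End K V) (W : Submodule K V)
    (hW : ∀ x, ∀ w ∈ W, ρ x w ∈ W) (h1 : rs ρ W hW = 1) (h2 : qt ρ W hW = 1) : ρ = 1 := by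
  have h1' : ∀ x, ∀ w ∈ W, ρ x w = w := by
    intro x w hw
    exact congrArg Subtype.val (LinearMap.congr_fun (DFunLike.congr_fun h1 x) ⟨w, hw⟩)
  have h2' : ∀ x v, ρ x v - v ∈ W := by
    intro x v
    have h3 := LinearMap.congr_fun (DFunLike.congr_fun h2 x) (Submodule.Quotient.mk v)
    exact (Submodule.Quotient.eq W).1 h3
  apply eq_one_of_comm hna
  have key : ∀ x y v, ρ x (ρ y v) = ρ x v + (ρ y v - v) := by
    intro x y v
    have h3 : ρ y v = v + (ρ y v - v) := by abel
    conv_lhs => rw [h3, map_add, h1' x _ (h2' y v)]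
  intro x y
  ext v
  rw [Module.End.mul_apply, Module.End.mul_apply, key, key]
  abel

/-- composition with commuting operators on equivariant maps -/
def post {U : Type u} [AddCommGroup U] [Module K U] (σ : T →* Module.End K U) (τ ρ : T →* Module.End K V)
    (hc : ∀ x y, τ x * ρ y = ρ y * τ x) : T →* Module.End K (Hm σ τ) where
  toFun y :=
    { toFun := fun φ => ⟨(ρ y).comp (φ : U →ₗ[K] V), fun x u => by
        rw [LinearMap.comp_apply, LinearMap.comp_apply, φ.2 x u]
        exact (LinearMap.congr_fun (hc x y) ((φ : U →ₗ[K] V) u)).symm⟩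
      map_add' := fun a b => by
        apply Subtype.ext
        ext u
        exact map_add (ρ y) _ _
      map_smul' := fun c a => by
        apply Subtype.ext
        ext u
        exact map_smul (ρ y) c _ }
  map_one' := by
    ext φ u
    change ρ 1 ((φ : U →ₗ[K] V) u) = (φ : U →ₗ[K] V) u
    rw [map_one]; rfl
  map_mul' a b := by
    ext φ u
    change ρ (a * b) ((φ : U →ₗ[K] V) u) = ρ a (ρ b ((φ : U →ₗ[K] V) u))
    rw [map_mul]; rfl

theorem post_apply {U : Type u} [AddCommGroup U] [Module K U] {σ : T →* Module.End K U} {τ ρ : T →* Module.End K V}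
    (hc : ∀ x y, τ x * ρ y = ρ y * τ x) (y : T) (φ : Hm σ τ) (u : U) :
    (post σ τ ρ hc y φ : U →ₗ[K] V) u = ρ y ((φ : U →ₗ[K] V) u) := rfl

/-- a minimal invariant subspace -/
theorem exists_irr [FiniteDimensional K V] [Nontrivial V] (ρ : T →* Module.End K V) :
    ∃ (W : Submodule K V) (hW : ∀ x, ∀ w ∈ W, ρ x w ∈ W), W ≠ ⊥ ∧ Irr (rs ρ W hW) := by
  classical
  have hex : ∃ n, ∃ W : Submodule K V, (∀ x, ∀ w ∈ W, ρ x w ∈ W) ∧ W ≠ ⊥ ∧ finrank K W = n :=
    ⟨_, ⊤, fun _ _ _ => trivial, top_ne_bot, rfl⟩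
  obtain ⟨W, hW, hW0, hWn⟩ := Nat.find_spec hex
  refine ⟨W, hW, hW0, fun W' hW' => ?_⟩
  by_cases h0 : W' = ⊥
  · exact Or.inl h0
  right
  have h1 : finrank K W ≤ finrank K W' := by
    rw [hWn]
    apply Nat.find_min' hex
    refine ⟨W'.map W.subtype, ?_, ?_, ?_⟩
    · rintro x _ ⟨w, hw, rfl⟩
      exact ⟨_, hW' x w hw, rfl⟩
    · intro h
      exact h0 (Submodule.map_injective_of_injective W.injective_subtype (h.trans (Submodule.map_bot _).symm))
    · exact (Submodule.equivMapOfInjective W.subtype W.injective_subtype W').finrank_eq.symm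
  exact Submodule.eq_top_of_finrank_eq (le_antisymm (Submodule.finrank_le _) h1)

end reps

/-- **the claim**: commuting nontrivial representations of a simple group -/
theorem claim {K : Type u} [Field K] [IsAlgClosed K] {T : Type*} [Group T] [IsSimpleGroup T]
    (hna : ∃ a b : T, a * b ≠ b * a) {m : ℕ} (hm : 2 ≤ m)
    (hmin : ∀ (W : Type u) [AddCommGroup W] [Module K W] [FiniteDimensional K W] (σ : T →* Module.End K W), σ ≠ 1 →
      m ≤ finrank K W) {ι : Type*} : ∀ (d : ℕ) (V : Type u) [AddCommGroup V] [Module K V]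
      [FiniteDimensional K V], finrank K V ≤ d → ∀ (ρ : ι → T →* Module.End K V) (s : Finset ι),
      (∀ i ∈ s, ∀ j ∈ s, i ≠ j → ∀ x y, ρ i x * ρ j y = ρ j y * ρ i x) → (∀ i ∈ s, ρ i ≠ 1) →
      m * s.card ≤ finrank K V := by
  classical
  intro d
  induction d with
  | zero =>
    intro V _ _ _ hd ρ s _ hs
    rcases s.eq_empty_or_nonempty with rfl | ⟨i, hi⟩
    · simp
    · have := hmin V (ρ i) (hs i hi)
      omega
  | succ d ih =>
    intro V _ _ _ hd ρ s hc hs
    by_cases hW : ∃ W : Submodule K V, (∀ i ∈ s, ∀ x, ∀ w ∈ W, ρ i x w ∈ W) ∧ W ≠ ⊥ ∧ W ≠ ⊤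
    · -- a common invariant subspace
      obtain ⟨W, hWi, hW0, hW1⟩ := hW
      let ρ1 : ι → T →* Module.End K W := fun i =>
        if h : ∀ x, ∀ w ∈ W, ρ i x w ∈ W then rs (ρ i) W h else 1
      let ρ2 : ι → T →* Module.End K (V ⧸ W) := fun i =>
        if h : ∀ x, ∀ w ∈ W, ρ i x w ∈ W then qt (ρ i) W h else 1
      have e1 : ∀ i (hi : i ∈ s), ρ1 i = rs (ρ i) W (hWi i hi) := fun i hi => dif_pos (hWi i hi)
      have e2 : ∀ i (hi : i ∈ s), ρ2 i = qt (ρ i) W (hWi i hi) := fun i hi => dif_pos (hWi i hi)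
      have hdW : finrank K W + finrank K (V ⧸ W) = finrank K V := by
        rw [add_comm]; exact Submodule.finrank_quotient_add_finrank W
      have hW0' : 0 < finrank K W := Nat.pos_of_ne_zero fun h => hW0 (Submodule.finrank_eq_zero.1 h)
      have hW1' := Submodule.finrank_lt hW1
      have i1 := ih W (by omega) ρ1 (s.filter fun i => ρ1 i ≠ 1) (by
        intro i hi j hj hij x y
        rw [Finset.mem_filter] at hi hj
        rw [e1 i hi.1, e1 j hj.1]
        ext w
        exact LinearMap.congr_fun (hc i hi.1 j hj.1 hij x y) (w : V)) (fun i hi => (Finset.mem_filter.1 hi).2)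
      have i2 := ih (V ⧸ W) (by omega) ρ2 (s.filter fun i => ρ2 i ≠ 1) (by
        intro i hi j hj hij x y
        rw [Finset.mem_filter] at hi hj
        rw [e2 i hi.1, e2 j hj.1]
        ext v
        exact congrArg (Submodule.Quotient.mk (p := W)) (LinearMap.congr_fun (hc i hi.1 j hj.1 hij x y) v))
        (fun i hi => (Finset.mem_filter.1 hi).2)
      have h3 : s ⊆ (s.filter fun i => ρ1 i ≠ 1) ∪ (s.filter fun i => ρ2 i ≠ 1) := by
        intro i hi
        rw [Finset.mem_union, Finset.mem_filter, Finset.mem_filter]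
        by_contra hcon
        push Not at hcon
        apply hs i hi
        have h4 := hcon.1 hi
        have h5 := hcon.2 hi
        rw [e1 i hi] at h4
        rw [e2 i hi] at h5
        exact triv_of hna (ρ i) W (hWi i hi) h4 h5
      have h4 := (Finset.card_le_card h3).trans (Finset.card_union_le _ _)
      calc m * s.card ≤ m * ((s.filter fun i => ρ1 i ≠ 1).card + (s.filter fun i => ρ2 i ≠ 1).card) :=
            Nat.mul_le_mul_left m h4
        _ = m * (s.filter fun i => ρ1 i ≠ 1).card + m * (s.filter fun i => ρ2 i ≠ 1).card := by ring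
        _ ≤ finrank K W + finrank K (V ⧸ W) := Nat.add_le_add i1 i2
        _ = finrank K V := hdW
    · -- irreducible
      push Not at hW
      rcases s.eq_empty_or_nonempty with rfl | ⟨i0, hi0⟩
      · simp
      have hmV := hmin V (ρ i0) (hs i0 hi0)
      set s' := s.erase i0 with hs'
      have hcard : s.card = s'.card + 1 := (Finset.card_erase_add_one hi0).symm
      rcases Nat.eq_zero_or_pos s'.card with h0 | h0
      · rw [hcard, h0, zero_add, mul_one]; exact hmV
      have hnV : Nontrivial V := Module.nontrivial_of_finrank_pos (R := K) (by omega)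
      obtain ⟨U, hUi, hU0, hUirr⟩ := exists_irr (ρ i0)
      have hnU : Nontrivial U := Submodule.nontrivial_iff_ne_bot.2 hU0
      set σ := rs (ρ i0) U hUi with hσ
      have hdm := dim_mul_le (τ := ρ i0) hUirr
      have hcj : ∀ j ∈ s', ∀ x y, ρ i0 x * ρ j y = ρ j y * ρ i0 x := by
        intro j hj
        rw [hs', Finset.mem_erase] at hj
        exact hc i0 hi0 j hj.2 hj.1.symm
      -- the inclusion
      have hinc : U.subtype ∈ Hm σ (ρ i0) := fun x u => rfl
      -- the images span
      let I : Submodule K V := ⨆ φ : Hm σ (ρ i0), LinearMap.range (φ : U →ₗ[K] V)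
      have hIm : ∀ (φ : Hm σ (ρ i0)) (u : U), (φ : U →ₗ[K] V) u ∈ I := fun φ u =>
        (le_iSup (fun φ : Hm σ (ρ i0) => LinearMap.range (φ : U →ₗ[K] V)) φ) (LinearMap.mem_range_self _ u)
      have hIinv : ∀ i ∈ s, ∀ x, ∀ w ∈ I, ρ i x w ∈ I := by
        intro i hi x
        have h1 : I ≤ I.comap (ρ i x) := by
          refine iSup_le fun φ => ?_
          rintro _ ⟨u, rfl⟩
          rw [Submodule.mem_comap]
          by_cases h2 : i = i0
          · subst h2
            rw [← φ.2 x u]
            exact hIm φ _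
          · have h3 : i ∈ s' := Finset.mem_erase.2 ⟨h2, hi⟩
            exact hIm (post σ (ρ i0) (ρ i) (hcj i h3) x φ) u
        exact fun w hw => h1 hw
      have hI0 : I ≠ ⊥ := by
        intro h
        obtain ⟨u, hu⟩ := exists_ne (0 : U)
        have h1 := hIm ⟨U.subtype, hinc⟩ u
        rw [h, Submodule.mem_bot] at h1
        exact hu (Subtype.ext h1)
      have hI1 : I = ⊤ := hW I hIinv hI0
      have hext : ∀ A : Module.End K V, (∀ (φ : Hm σ (ρ i0)) (u : U), A ((φ : U →ₗ[K] V) u) = (φ : U →ₗ[K] V) u) →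
          A = 1 := by
        intro A hA
        have h1 : I ≤ LinearMap.ker (A - 1) := by
          refine iSup_le fun φ => ?_
          rintro _ ⟨u, rfl⟩
          rw [LinearMap.mem_ker, LinearMap.sub_apply, hA, Module.End.one_apply, sub_self]
        rw [hI1, top_le_iff] at h1
        exact sub_eq_zero.1 (LinearMap.ker_eq_top.1 h1)
      have hσ1 : σ ≠ 1 := by
        intro h
        apply hs i0 hi0
        ext1 x
        apply hext
        intro φ u
        have h1 : σ x u = u := LinearMap.congr_fun (DFunLike.congr_fun h x) u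
        rw [← φ.2 x u, h1]
      have hU := hmin U σ hσ1
      let ρ' : ι → T →* Module.End K (Hm σ (ρ i0)) := fun j =>
        if h : ∀ x y, ρ i0 x * ρ j y = ρ j y * ρ i0 x then post σ (ρ i0) (ρ j) h else 1
      have e' : ∀ j (hj : j ∈ s'), ρ' j = post σ (ρ i0) (ρ j) (hcj j hj) := fun j hj => dif_pos (hcj j hj)
      have hHpos : 0 < finrank K (Hm σ (ρ i0)) := by
        have : Nontrivial (Hm σ (ρ i0)) := by
          refine ⟨⟨⟨U.subtype, hinc⟩, 0, fun h => ?_⟩⟩
          obtain ⟨u, hu⟩ := exists_ne (0 : U)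
          apply hu
          exact Subtype.ext (LinearMap.congr_fun (congrArg Subtype.val h) u)
        exact Module.finrank_pos
      have hle : finrank K (Hm σ (ρ i0)) * 2 ≤ finrank K V :=
        (Nat.mul_le_mul_left _ (hm.trans hU)).trans hdm
      have i3 := ih (Hm σ (ρ i0)) (by omega) ρ' s' (by
        intro i hi j hj hij x y
        rw [e' i hi, e' j hj]
        ext φ u
        exact LinearMap.congr_fun (hc i (Finset.mem_of_mem_erase hi) j (Finset.mem_of_mem_erase hj) hij x y)
          ((φ : U →ₗ[K] V) u)) (by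
        intro j hj h
        rw [e' j hj] at h
        apply hs j (Finset.mem_of_mem_erase hj)
        ext1 y
        apply hext
        intro φ u
        rw [← post_apply (hcj j hj) y φ u, h]
        rfl)
      rw [hcard]
      calc m * (s'.card + 1) ≤ m * (m * s'.card) := by
            apply Nat.mul_le_mul_left
            nlinarith only [hm, h0]
        _ ≤ m * finrank K (Hm σ (ρ i0)) := Nat.mul_le_mul_left m i3
        _ ≤ finrank K (Hm σ (ρ i0)) * finrank K U := by rw [mul_comm]; exact Nat.mul_le_mul_left _ hU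
        _ ≤ finrank K V := hdm

/-- representations of a finite group over the algebraic closure of a finite field are defined over a finite field -/
theorem descend {F : Type} [Field F] [Finite F] {T : Type*} [Group T] [Finite T] {W : Type} [AddCommGroup W]
    [Module (AlgebraicClosure F) W] [FiniteDimensional (AlgebraicClosure F) W] (σ : T →* Module.End (AlgebraicClosure F) W)
    (hσ : Function.Injective σ) {N : ℕ} (hN : finrank (AlgebraicClosure F) W = N) :
    ∃ (F' : Type) (_ : Field F') (_ : Fintype F') (_ : Algebra F F') (τ : T →* Matrix.GeneralLinearGroup (Fin N) F'),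
      Function.Injective τ := by
  classical
  let b : Basis (Fin N) (AlgebraicClosure F) W := (Module.finBasis (AlgebraicClosure F) W).reindex (finCongr hN)
  let M : T →* Matrix (Fin N) (Fin N) (AlgebraicClosure F) :=
    ((LinearMap.toMatrixAlgEquiv b : (W →ₗ[AlgebraicClosure F] W) ≃ₐ[AlgebraicClosure F] _) :
      (W →ₗ[AlgebraicClosure F] W) →* _).comp σ
  have hM : Function.Injective M := (LinearMap.toMatrixAlgEquiv b).injective.comp hσ
  let S : Set (AlgebraicClosure F) := Set.range (fun q : T × Fin N × Fin N => M q.1 q.2.1 q.2.2)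
  have hS : Finite S := Set.finite_range _
  let E := IntermediateField.adjoin F S
  have hE : FiniteDimensional F E :=
    IntermediateField.finiteDimensional_adjoin fun x _ => Algebra.IsIntegral.isIntegral x
  have hEf : Finite E := Module.finite_of_finite F
  have hmem : ∀ x i j, M x i j ∈ E := fun x i j => IntermediateField.subset_adjoin F S ⟨(x, i, j), rfl⟩
  let g : T → Matrix (Fin N) (Fin N) E := fun x => Matrix.of fun i j => ⟨M x i j, hmem x i j⟩
  have hinj : Function.Injective (algebraMap E (AlgebraicClosure F)) := (algebraMap E (AlgebraicClosure F)).injective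
  have hg : ∀ x, (g x).map (algebraMap E (AlgebraicClosure F)) = M x := fun x => rfl
  let τ0 : T →* Matrix (Fin N) (Fin N) E :=
    { toFun := g
      map_one' := by
        apply Matrix.map_injective hinj
        change (g 1).map (algebraMap E (AlgebraicClosure F)) =
          (1 : Matrix (Fin N) (Fin N) E).map (algebraMap E (AlgebraicClosure F))
        rw [hg, map_one, Matrix.map_one _ (map_zero _) (map_one _)]
      map_mul' := fun x y => by
        apply Matrix.map_injective hinj
        change (g (x * y)).map (algebraMap E (AlgebraicClosure F)) = (g x * g y).map (algebraMap E (AlgebraicClosure F))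
        rw [hg, map_mul, Matrix.map_mul, hg, hg] }
  refine ⟨E, inferInstance, Fintype.ofFinite E, inferInstance, MonoidHom.toHomUnits τ0, ?_⟩
  intro x y hxy
  apply hM
  have h1 : g x = g y := congrArg Units.val hxy
  rw [← hg x, ← hg y, h1]

/-- a faithful representation of degree `n / k` over the algebraic closure -/
theorem exists_deg {F : Type} [Field F] {n : ℕ} {G : Type*} [Group G]
    {ρ : G →* Matrix.GeneralLinearGroup (Fin n) F} (hρ : Function.Injective ρ) {T : Type*} [Group T]
    [IsSimpleGroup T] (hna : ∃ a b : T, a * b ≠ b * a) {k : ℕ} (hk : 1 ≤ k) (f : (Fin k → T) →* G)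
    (hf : Function.Injective f) : ∃ (W : Type) (_ : AddCommGroup W) (_ : Module (AlgebraicClosure F) W)
      (_ : FiniteDimensional (AlgebraicClosure F) W) (σ : T →* Module.End (AlgebraicClosure F) W),
      Function.Injective σ ∧ finrank (AlgebraicClosure F) W = n / k := by
  classical
  set K := AlgebraicClosure F with hK
  -- the given representation
  let Θ : Matrix.GeneralLinearGroup (Fin n) F →* Module.End K (Fin n → K) :=
    ((Matrix.toLinAlgEquiv' : Matrix (Fin n) (Fin n) K ≃ₐ[K] _) : Matrix (Fin n) (Fin n) K →* _).comp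
      (((RingHom.mapMatrix (algebraMap F K) : Matrix (Fin n) (Fin n) F →+* Matrix (Fin n) (Fin n) K) :
        Matrix (Fin n) (Fin n) F →* Matrix (Fin n) (Fin n) K).comp (Units.coeHom _))
  have hΘ : Function.Injective Θ :=
    (Matrix.toLinAlgEquiv' (R := K) (n := Fin n)).injective.comp
      ((Matrix.map_injective (algebraMap F K).injective).comp Units.val_injective)
  let R : Fin k → T →* Module.End K (Fin n → K) := fun i =>
    Θ.comp (ρ.comp (f.comp (MonoidHom.mulSingle (fun _ => T) i)))
  have hRi : ∀ i, Function.Injective (R i) := fun i =>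
    hΘ.comp (hρ.comp (hf.comp (Pi.mulSingle_injective (M := fun _ : Fin k => T) i)))
  have hne : ∀ i, R i ≠ 1 := by
    intro i h
    obtain ⟨a, b, hab⟩ := hna
    apply hab
    apply hRi i
    rw [map_mul, map_mul, h]
    rfl
  -- the minimal degree
  have hex : ∃ d : ℕ, ∃ (W : Type) (_ : AddCommGroup W) (_ : Module K W) (_ : FiniteDimensional K W)
      (σ : T →* Module.End K W), σ ≠ 1 ∧ finrank K W = d :=
    ⟨_, Fin n → K, inferInstance, inferInstance, inferInstance, R ⟨0, hk⟩, hne _, rfl⟩
  set m := Nat.find hex with hm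
  have hmin : ∀ (W : Type) [AddCommGroup W] [Module K W] [FiniteDimensional K W] (σ : T →* Module.End K W), σ ≠ 1 →
      m ≤ finrank K W := by
    intro W _ _ _ σ hσ
    exact Nat.find_min' hex ⟨W, inferInstance, inferInstance, inferInstance, σ, hσ, rfl⟩
  obtain ⟨W, i1, i2, i3, σ, hσ, hWm⟩ := Nat.find_spec hex
  rw [← hm] at hWm
  have hm2 : 2 ≤ m := by
    by_contra hcon
    apply hσ
    apply eq_one_of_comm hna
    obtain ⟨v, hv⟩ := finrank_le_one_iff.1 (show finrank K W ≤ 1 by omega)
    intro x y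
    ext w
    obtain ⟨c, rfl⟩ := hv w
    obtain ⟨a, ha⟩ := hv (σ x v)
    obtain ⟨b, hb⟩ := hv (σ y v)
    rw [map_smul, map_smul, Module.End.mul_apply, Module.End.mul_apply, ← ha, ← hb, map_smul, map_smul, ← ha, ← hb]
    simp only [smul_smul]
    congr 1
    ring
  have hcl := claim hna hm2 hmin n (Fin n → K) (by rw [Module.finrank_fin_fun]) R Finset.univ (by
    intro i _ j _ hij x y
    have h1 : Commute (MonoidHom.mulSingle (fun _ : Fin k => T) i x) (MonoidHom.mulSingle (fun _ : Fin k => T) j y) :=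
      Pi.mulSingle_commute (f := fun _ : Fin k => T) hij x y
    have h2 := (((h1.map f).map ρ).map Θ).eq
    exact h2) (fun i _ => hne i)
  rw [Finset.card_univ, Fintype.card_fin, Module.finrank_fin_fun] at hcl
  have hmN : m ≤ n / k := (Nat.le_div_iff_mul_le hk).2 hcl
  -- padding
  let σ' : T →* Module.End K (W × (Fin (n / k - m) → K)) :=
    { toFun := fun x => (σ x).prodMap LinearMap.id
      map_one' := by rw [map_one]; exact LinearMap.prodMap_id
      map_mul' := fun x y => by
        rw [map_mul]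
        ext w <;> simp only [_root_.LinearMap.coe_comp, _root_.LinearMap.coe_inl, _root_.Function.comp_apply, _root_.LinearMap.prodMap_apply, _root_.Module.End.mul_apply, _root_.LinearMap.id_coe, _root_.id_eq, _root_.Pi.zero_apply, _root_.LinearMap.coe_inr, _root_.LinearMap.coe_single, _root_.map_zero] }
  have hσ' : Function.Injective σ' := by
    intro x y hxy
    apply inj_of_ne hσ
    ext w
    have h1 := LinearMap.congr_fun hxy (w, 0)
    exact congrArg Prod.fst h1
  exact ⟨W × (Fin (n / k - m) → K), inferInstance, inferInstance, inferInstance, σ', hσ', by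
    rw [Module.finrank_prod, hWm, Module.finrank_fin_fun]
    omega⟩

/-- **LSk**, over the algebraic closure (`Fth (n / k) (AlgebraicClosure F) T` of H290/ElReg, unfolded) -/
theorem fth_div {F : Type} [Field F] {n k : ℕ} (hk : 1 ≤ k) {T : Type} [Group T] [IsSimpleGroup T]
    (hna : ¬ ∀ a b : T, a * b = b * a) {G : Type} [Group G]
    (hG : ∃ ρ : G →* Matrix.GeneralLinearGroup (Fin n) F, Function.Injective ρ) (f : (Fin k → T) →* G)
    (hf : Function.Injective f) :
    ∃ τ : T →* Matrix.GeneralLinearGroup (Fin (n / k)) (AlgebraicClosure F), Function.Injective τ := by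
  classical
  obtain ⟨ρ, hρ⟩ := hG
  push Not at hna
  obtain ⟨W, i1, i2, i3, σ, hσ, hN⟩ := exists_deg hρ hna hk f hf
  let b : Basis (Fin (n / k)) (AlgebraicClosure F) W := (Module.finBasis (AlgebraicClosure F) W).reindex (finCongr hN)
  let M : T →* Matrix (Fin (n / k)) (Fin (n / k)) (AlgebraicClosure F) :=
    ((LinearMap.toMatrixAlgEquiv b : (W →ₗ[AlgebraicClosure F] W) ≃ₐ[AlgebraicClosure F] _) :
      (W →ₗ[AlgebraicClosure F] W) →* _).comp σ
  have hM : Function.Injective M := (LinearMap.toMatrixAlgEquiv b).injective.comp hσ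
  refine ⟨MonoidHom.toHomUnits M, ?_⟩
  intro x y hxy
  exact hM (congrArg Units.val hxy)

end Cfsg.Agent.H898.EPX
end

-- part: H542/EPX/Cells
section
set_option linter.all false

/-!
# S5745 (extremely primitive exceptional groups): the cells (driver helper542)

For a group `G` (always the concrete model of the family, `G : Type`) of characteristic `p`:

* `Spor G` : no stabiliser `H` with socle `N ≅ T`, `T` sporadic;
* `Cross p G` : no `H` with socle `N ≅ T`, `T` not sporadic and not of Lie type in characteristic `p` (as in `IsLieTypeChar`);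
* `CrossK p G` : no `H` with socle `N ≅ T^k`, `k ≥ 2`, `T` not of Lie type in characteristic `p`;
* `Own p G` : no `H` with socle `N ≅ T^k`, `T` of Lie type in characteristic `p`;
* `Aff G`, `Two G` : no `H` of affine type, no `H` with two minimal normal subgroups.

`Kill p G` = all six (`Kill.noEP : NoEP G`). `Cells` = one field per family. `main` (in `Final.lean`) : `Cells → S5745`.
-/

set_option autoImplicit false

namespace Cfsg.Agent.H542.EPX

open Cfsg.Agent.H284 Cfsg.Agent.H209.EPX

/-- socle a sporadic group -/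
def Spor (G : Type) [Group G] : Prop :=
  ∀ (H N : Subgroup G) (T : Type) [Group T] (e : N ≃* (Fin 1 → T)), EPS H N e → IsSporadicGroup T → False

/-- socle `T` simple, not sporadic, not of Lie type in characteristic `p` -/
def Cross (p : ℕ) (G : Type) [Group G] : Prop :=
  ∀ (H N : Subgroup G) (T : Type) [Group T] (e : N ≃* (Fin 1 → T)), EPS H N e → ¬ IsSporadicGroup T →
    ¬ IsLieTypeChar p T → False

/-- socle `T ^ k`, `k ≥ 2`, `T` not of Lie type in characteristic `p` -/
def CrossK (p : ℕ) (G : Type) [Group G] : Prop :=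
  ∀ (H N : Subgroup G) (T : Type) [Group T] (k : ℕ) (e : N ≃* (Fin k → T)), 2 ≤ k → EPS H N e →
    ¬ IsLieTypeChar p T → False

/-- socle `T ^ k`, `T` of Lie type in characteristic `p` -/
def Own (p : ℕ) (G : Type) [Group G] : Prop :=
  ∀ (H N : Subgroup G) (T : Type) [Group T] (k : ℕ) (e : N ≃* (Fin k → T)), EPS H N e → IsLieTypeChar p T → False

/-- an abelian normal subgroup -/
def Aff (G : Type) [Group G] : Prop := ∀ H X : Subgroup G, EPA2 H X → False

/-- two nonabelian minimal normal subgroups -/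
def Two (G : Type) [Group G] : Prop :=
  ∀ (H N N' : Subgroup G) (T : Type) [Group T] (k : ℕ) (e : N ≃* (Fin k → T)), EPT2 H N N' e → False

/-- all cases are killed -/
structure Kill (p : ℕ) (G : Type) [Group G] : Prop where
  spor : Spor G
  cross : Cross p G
  crossk : CrossK p G
  own : Own p G
  aff : Aff G
  two : Two G

/-- no extremely primitive stabiliser at all -/
def NoEP (G : Type) [Group G] : Prop := ∀ H : Subgroup G, EP H → False

/-- The families except `G₂`, each for the concrete model. -/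
structure Cells : Prop where
  e8 : ∀ (F : Type) [Field F] [Fintype F] (p : ℕ) [Fact p.Prime] [CharP F p] [IsSimpleGroup ↥(Lie.chevE8.group F)],
    Kill p ↥(Lie.chevE8.group F)
  e7 : ∀ (F : Type) [Field F] [Fintype F] (p : ℕ) [Fact p.Prime] [CharP F p] [IsSimpleGroup ↥(Lie.chevE7.group F)],
    Kill p ↥(Lie.chevE7.group F)
  e6 : ∀ (F : Type) [Field F] [Fintype F] (p : ℕ) [Fact p.Prime] [CharP F p] [IsSimpleGroup ↥(Lie.chevE6.group F)],
    Kill p ↥(Lie.chevE6.group F)
  f4 : ∀ (F : Type) [Field F] [Fintype F] (p : ℕ) [Fact p.Prime] [CharP F p] [IsSimpleGroup ↥(Lie.chevF4.group F)],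
    Kill p ↥(Lie.chevF4.group F)
  te6 : ∀ (K : Type) [Field K] [Fintype K] (p q : ℕ) [Fact p.Prime] [CharP K p] [IsSimpleGroup ↥(Lie.twistedE6 K q)],
    IsPrimePow q → Fintype.card K = q ^ 2 → Kill p ↥(Lie.twistedE6 K q)
  td4 : ∀ (K : Type) [Field K] [Fintype K] (p q : ℕ) [Fact p.Prime] [CharP K p] [IsSimpleGroup ↥(Lie.twistedD4 K q)],
    IsPrimePow q → Fintype.card K = q ^ 3 → Kill p ↥(Lie.twistedD4 K q)
  sz : ∀ (F : Type) [Field F] [Fintype F] (m : ℕ) [IsSimpleGroup ↥(Lie.Sz F (2 ^ (m + 1)))],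
    1 ≤ m → Fintype.card F = 2 ^ (2 * m + 1) → NoEP ↥(Lie.Sz F (2 ^ (m + 1)))
  ree : ∀ (K : Type) [Field K] [Fintype K] (m : ℕ) [IsSimpleGroup ↥(Lie.twistedG2 K (3 ^ m))],
    1 ≤ m → Fintype.card K = 3 ^ (2 * m + 1) → NoEP ↥(Lie.twistedG2 K (3 ^ m))
  tf4 : ∀ (K : Type) [Field K] [Fintype K] (m : ℕ) [IsSimpleGroup ↥(Lie.twistedF4 K (2 ^ m))],
    1 ≤ m → Fintype.card K = 2 ^ (2 * m + 1) → NoEP ↥(Lie.twistedF4 K (2 ^ m))
  tits : ∀ [IsSimpleGroup Lie.TitsGroup], NoEP Lie.TitsGroup
  /-- `G₂(q)`: everything except the sporadic socles -/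
  g2_cross : ∀ (F : Type) [Field F] [Fintype F] (p : ℕ) [Fact p.Prime] [CharP F p]
    [IsSimpleGroup ↥(Lie.chevG2.group F)], 3 ≤ Fintype.card F → Cross p ↥(Lie.chevG2.group F)
  g2_crossk : ∀ (F : Type) [Field F] [Fintype F] (p : ℕ) [Fact p.Prime] [CharP F p]
    [IsSimpleGroup ↥(Lie.chevG2.group F)], 3 ≤ Fintype.card F → CrossK p ↥(Lie.chevG2.group F)
  g2_own : ∀ (F : Type) [Field F] [Fintype F] (p : ℕ) [Fact p.Prime] [CharP F p]
    [IsSimpleGroup ↥(Lie.chevG2.group F)], 3 ≤ Fintype.card F → Own p ↥(Lie.chevG2.group F)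
  g2_aff : ∀ (F : Type) [Field F] [Fintype F] (p : ℕ) [Fact p.Prime] [CharP F p]
    [IsSimpleGroup ↥(Lie.chevG2.group F)], 3 ≤ Fintype.card F → Aff ↥(Lie.chevG2.group F)
  g2_two : ∀ (F : Type) [Field F] [Fintype F] (p : ℕ) [Fact p.Prime] [CharP F p]
    [IsSimpleGroup ↥(Lie.chevG2.group F)], 3 ≤ Fintype.card F → Two ↥(Lie.chevG2.group F)
  /-- `G₂(q)`, sporadic socles: only `q = 4`, `H ≅ J₂` -/
  g2_spor : ∀ (F : Type) [Field F] [Fintype F] (p : ℕ) [Fact p.Prime] [CharP F p]
    [IsSimpleGroup ↥(Lie.chevG2.group F)], 3 ≤ Fintype.card F →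
    ∀ (H N : Subgroup ↥(Lie.chevG2.group F)) (T : Type) [Group T] (e : N ≃* (Fin 1 → T)), EPS H N e →
      IsSporadicGroup T → Fintype.card F = 4 ∧ Cfsg.Spor.IsoJ2 ↥H

end Cfsg.Agent.H542.EPX
end

-- part: H226/EX/Glue
section
set_option linter.all false
open scoped Cfsg.Agent.FastGrp

/-!
# S5745: `EPS H N e` (`k = 1`) ⇒ `EPT H _`, `HasSoc H T`; the index bound without the cube term (helper226)

`TwoGen` stays a hypothesis (`Cfsg.Agent.H59.EP.twoGen` of `H59/EP/UBFin.lean` discharges it).
-/

set_option autoImplicit false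

namespace Cfsg.Agent.H226.EX

open Subgroup Cfsg.Agent.H284 Cfsg.Agent.H209.EPX Cfsg.Agent.H59.EP Cfsg.Agent.H419.EP

variable {G : Type*} [Group G] {H N : Subgroup G} {T : Type} [Group T]

theorem not_comm_of_eps {k : ℕ} {e : N ≃* (Fin k → T)} (h : EPS H N e) : ¬ ∀ a b : G, a * b = b * a := by
  intro hc
  have h1 := h.cent
  have : N = ⊥ := by
    rw [eq_bot_iff, ← h1]
    intro x _
    rw [Subgroup.mem_centralizer_iff]
    intro y _
    exact hc _ _
  exact h.ne this

/-- `EPT` of an `EPS` -/
theorem ept_of_eps [Finite G] [hs0 : IsSimpleGroup G] {k : ℕ} {e : N ≃* (Fin k → T)} (h : EPS H N e) :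
    EPT H (H.map (MulAut.conj : G →* MulAut G)) := by
  have hcomm := not_comm_of_eps h
  have hs : IsSimpleGroup (⊤ : Subgroup G) := (Subgroup.topEquiv (G := G)).isSimpleGroup
  have hcent : Subgroup.centralizer ((⊤ : Subgroup G) : Set G) = ⊥ := by
    have h1 : Subgroup.centralizer ((⊤ : Subgroup G) : Set G) = center G := by
      rw [Subgroup.coe_top, Subgroup.centralizer_univ]
    rw [h1]
    rcases (inferInstance : (center G).Normal).eq_bot_or_eq_top with h2 | h2
    · exact h2
    · exfalso
      apply hcomm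
      intro a b
      have : b ∈ center G := by rw [h2]; exact mem_top _
      exact (mem_center_iff.1 this a)
  have hsol : Group.IsSolvable (G ⧸ (⊤ : Subgroup G)) := by
    have : Subsingleton (G ⧸ (⊤ : Subgroup G)) := QuotientGroup.subsingleton_quotient_top
    infer_instance
  have h1 := h.ep.toEPT (T := ⊤) (Subgroup.topEquiv (G := G)) hs
    (fun h2 => hcomm fun a b => h2 a (mem_top _) b (mem_top _)) hcent hsol
  have e1 : TA (Subgroup.topEquiv (G := G)) H = H := by
    ext q
    rfl
  have e2 : toAut (Subgroup.topEquiv (G := G)) = (MulAut.conj : G →* MulAut G) := by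
    ext g q
    have := toG_toAut (Subgroup.topEquiv (G := G)) g q
    exact this
  rw [e1, e2] at h1
  exact h1

/-- no abelian normal subgroup -/
theorem hab_of_eps {k : ℕ} {e : N ≃* (Fin k → T)} (h : EPS H N e) :
    ∀ K : Subgroup G, K ≤ H → (∀ a ∈ H, ∀ k ∈ K, a * k * a⁻¹ ∈ K) → (∀ a ∈ K, ∀ b ∈ K, a * b = b * a) → K = ⊥ := by
  intro K hK hKn hKab
  by_contra hne
  have h1 := h.least K ⟨hK, hKn⟩ hne
  obtain ⟨a, b, hab⟩ := h.nab
  apply hab
  have : (Pi.mulSingle (⟨0, h.pos⟩ : Fin k) a : Fin k → T) * Pi.mulSingle ⟨0, h.pos⟩ b =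
      Pi.mulSingle ⟨0, h.pos⟩ b * Pi.mulSingle ⟨0, h.pos⟩ a := by
    have h2 := hKab _ (h1 (e.symm (Pi.mulSingle ⟨0, h.pos⟩ a)).2) _ (h1 (e.symm (Pi.mulSingle ⟨0, h.pos⟩ b)).2)
    have h3 : e.symm (Pi.mulSingle (⟨0, h.pos⟩ : Fin k) a) * e.symm (Pi.mulSingle ⟨0, h.pos⟩ b) =
        e.symm (Pi.mulSingle ⟨0, h.pos⟩ b) * e.symm (Pi.mulSingle ⟨0, h.pos⟩ a) := Subtype.ext h2
    have h4 := congrArg e h3
    simpa using h4
  have h5 := congrFun this ⟨0, h.pos⟩
  simpa using h5

/-- `k = 1`: `H` has socle `T` -/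
theorem hasSoc_of_eps {e : N ≃* (Fin 1 → T)} (h : EPS H N e) : HasSoc H T := by
  refine ⟨N, h.le, h.nrm, ?_, ⟨e.trans ⟨Equiv.funUnique (Fin 1) T, fun _ _ => rfl⟩⟩⟩
  intro a _ hc
  have h1 : a ∈ Subgroup.centralizer (N : Set G) := by
    rw [Subgroup.mem_centralizer_iff]
    intro n hn
    exact (hc n hn).symm
  rw [h.cent, mem_bot] at h1
  exact h1

/-- `|H|` divides `|Aut T|` (`k = 1`) -/
theorem card_dvd_aut [Finite T] {e : N ≃* (Fin 1 → T)} (h : EPS H N e) : Nat.card H ∣ Nat.card (MulAut T) := by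
  obtain ⟨f, hf⟩ := (hasSoc_of_eps h).exists_hom
  exact Subgroup.card_dvd_of_injective f hf

/-- `|T|` divides `|H|` (`k = 1`) -/
theorem dvd_card {e : N ≃* (Fin 1 → T)} (h : EPS H N e) : Nat.card T ∣ Nat.card H := (hasSoc_of_eps h).card_dvd

/-- **the index bound without the cube term**: every prime `≥ 5` divides `|H|` at most once -/
theorem index_le_of_eps (hg : TwoGen.{0}) {G : Type} [Group G] [Finite G] [IsSimpleGroup G]
    {H N : Subgroup G} {k : ℕ} {e : N ≃* (Fin k → T)} (h : EPS H N e)
    (l : List (ℕ × ℕ)) (h1 : ∀ x ∈ l, x.1.Prime ∧ 0 < x.2) (h2 : (l.map Prod.fst).Nodup)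
    (h5 : ∀ x ∈ l, 5 ≤ x.1 → x.2 = 1) (hc : Nat.card H = (l.map fun x => x.1 ^ x.2).prod) :
    H.index ≤ 1 + ((l.map fun x => gal x.1 x.2).sum * (Nat.card H / 6) + Nat.card H ^ 2 / 60) *
      (2 * (Nat.card H / 6)) :=
  index_le_of (EPT.ncard_le_list (ept_of_eps h) hg (hab_of_eps h) l h1 h2 h5 hc)
    (Cfsg.Agent.H173.EP.ub1 inferInstance (ept_of_eps h) (by norm_num) fun _ hx => EPT.six_le (ept_of_eps h) (hab_of_eps h) hx) le_rfl

end Cfsg.Agent.H226.EX
end

-- part: H889/Enum/LS
section
set_option linter.all false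
open scoped Cfsg.Agent.FastGrp

/-!
# S5745, layer ENUM: the simple groups of Lie type in cross characteristic with a faithful representation of degree `≤ 248`

`cross_lie` : `T` known simple nonabelian, `Fth n F T` (faithful of degree `n ≤ 248` over `F`, `char F = p`), not of Lie
type in characteristic `p`: `T` is alternating, the Tits group, sporadic, or has a name `g` with
`(X, (l, a)) ∈ reg n`, `l ≠ p`.

`fth_e8 … fth_g2`, `fth_te6`, `fth_td4`, `fth_tf4` : the adjoint representation of the models.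
-/

set_option autoImplicit false

namespace Cfsg.Agent.H889.Enum

open Cfsg Cfsg.Agent.OrdDiv Cfsg.Agent.H902 Cfsg.Agent.H902.Names Cfsg.Agent.H290.ElReg
open scoped MatrixGroups

/-- `T` has a name of Lie type in characteristic `l ≠ p` in the region of degree `n` -/
def InReg (n p : ℕ) (T : Type) [Group T] : Prop :=
  ∃ (g : Grp) (X : Art.Sh) (l a : ℕ), IsLie g X l a ∧ OrdDiv.Real g T ∧ Art.Real X l a (Nat.card T) ∧
    (X, (l, a)) ∈ Cfsg.Agent.H290.ElTab.reg n ∧ l ≠ p

theorem cross_lie (OT : OrderTable.{0}) {n p : ℕ} [Fact p.Prime] (hn : n ≤ 248) {F : Type} [Field F] [CharP F p]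
    {T : Type} [Group T] [Finite T] [IsSimpleGroup T] (hna : ¬ ∀ a b : T, a * b = b * a) (hk : IsKnownSimple' T)
    (hf : Fth n F T) (hL : ¬ IsLieTypeChar p T) :
    IsAlternating T ∨ Lie.IsoTits T ∨ IsSporadicGroup T ∨ InReg n p T := by
  have hna' : ¬ IsMulCommutative T := fun h => hna fun a b => h.is_comm.comm a b
  rcases H912.Known.known_split hk (H912.Known.not_primeCyclic hna') with h | ⟨r, hr, h⟩ | h | h
  · exact Or.inl h
  · have hrp : r ≠ p := by
      rintro rfl
      exact hL h
    obtain ⟨g, X, f, hg, hR, hA⟩ := H364.LieNam.lie_nam OT hr h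
    have hrF : (r : F) ≠ 0 := by
      intro h0
      exact hrp ((Nat.prime_dvd_prime_iff_eq (Fact.out : p.Prime) hr).1 ((CharP.cast_eq_zero_iff F p r).1 h0)).symm
    have hlb := lb_le hna hn hf hg hR hA hrF
    exact Or.inr (Or.inr (Or.inr ⟨g, X, r, f, hg, hR, hA,
      Cfsg.Agent.H290.ElCross.mem_reg hn hA.hp hA.hf hA.ok hlb, hrp⟩))
  · exact Or.inr (Or.inl h)
  · exact Or.inr (Or.inr (Or.inl h))

/-! ### the adjoint representations of the models -/

theorem fth_sub {ι : Type} [Fintype ι] [DecidableEq ι] {F : Type} [Field F] (G : Subgroup (GL ι F)) {n : ℕ}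
    (hn : Fintype.card ι = n) : Fth n F ↥G := by
  subst hn
  exact Fth.of (ρ := G.subtype) G.subtype_injective

/-- a group with an injection into a group with a faithful representation -/
theorem fth_of {n : ℕ} {F : Type} [Field F] {G T : Type} [Group G] [Group T] (h : Fth n F G) {f : T →* G}
    (hf : Function.Injective f) : Fth n F T := h.sub f hf

theorem card_e8 : Fintype.card Lie.chevE8.Idx = 248 := by
  show Fintype.card (Fin 8 ⊕ Fin 240) = 248
  rw [Fintype.card_sum, Fintype.card_fin, Fintype.card_fin]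

theorem card_e7 : Fintype.card Lie.chevE7.Idx = 133 := by
  show Fintype.card (Fin 7 ⊕ Fin 126) = 133
  rw [Fintype.card_sum, Fintype.card_fin, Fintype.card_fin]

theorem card_e6 : Fintype.card Lie.chevE6.Idx = 78 := by
  show Fintype.card (Fin 6 ⊕ Fin 72) = 78
  rw [Fintype.card_sum, Fintype.card_fin, Fintype.card_fin]

theorem card_f4 : Fintype.card Lie.chevF4.Idx = 52 := by
  show Fintype.card (Fin 4 ⊕ Fin 48) = 52
  rw [Fintype.card_sum, Fintype.card_fin, Fintype.card_fin]

theorem card_d4 : Fintype.card Lie.chevD4.Idx = 28 := by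
  show Fintype.card (Fin 4 ⊕ Fin 24) = 28
  rw [Fintype.card_sum, Fintype.card_fin, Fintype.card_fin]

theorem card_g2 : Fintype.card Lie.chevG2.Idx = 14 := by
  show Fintype.card (Fin 2 ⊕ Fin 12) = 14
  rw [Fintype.card_sum, Fintype.card_fin, Fintype.card_fin]

section models

variable (F : Type) [Field F]

theorem fth_e8 : Fth 248 F ↥(Lie.chevE8.group F) := fth_sub _ card_e8

theorem fth_e7 : Fth 133 F ↥(Lie.chevE7.group F) := fth_sub _ card_e7

theorem fth_e6 : Fth 78 F ↥(Lie.chevE6.group F) := fth_sub _ card_e6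

theorem fth_f4 : Fth 52 F ↥(Lie.chevF4.group F) := fth_sub _ card_f4

theorem fth_g2 : Fth 14 F ↥(Lie.chevG2.group F) := fth_sub _ card_g2

theorem fth_te6 (q : ℕ) : Fth 78 F ↥(Lie.twistedE6 F q) := fth_sub _ card_e6

theorem fth_td4 (q : ℕ) : Fth 28 F ↥(Lie.twistedD4 F q) := fth_sub _ card_d4

theorem fth_tf4 (e : ℕ) : Fth 52 F ↥(Lie.twistedF4 F e) := fth_sub _ card_f4

end models

end Cfsg.Agent.H889.Enum
end

-- part: H252/EN/Tab
section
set_option linter.all false
open scoped Cfsg.Agent.FastGrp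

/-!
# S5745, layer ENUM: the final tables (helper252)

`UB B`: the bound for `|G|` when `|H|` divides `B` (`H59.EP.EPT.index_le_gen_fin`), evaluated;
`chk D Y al`: the kernel test: all names of the region `reg D`, all `q`: dead by the order, or by `UB`, or in the list `al`.
-/

set_option autoImplicit false

namespace Cfsg.Agent.H252.EN

open Cfsg.Agent.H902 Cfsg.Agent.H290.ElReg Cfsg.Agent.H290.ElTab Cfsg.Agent.H290.ElCross Cfsg.Agent.H59.EP Finset

/-! ### computable bounds -/

/-- forced evaluation -/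
def force {α : Type} (n : ℕ) (f : ℕ → α) : α := Nat.rec (f 0) (fun k _ => f (k + 1)) n

theorem force_eq {α : Type} (n : ℕ) (f : ℕ → α) : force n f = f n := by
  cases n <;> rfl

/-- the exponent of `r` (fuel `k`) -/
def vf (r : ℕ) : ℕ → ℕ → ℕ
  | 0, _ => 0
  | k + 1, B => if B % r = 0 then vf r k (B / r) + 1 else 0

/-- the factorisation over the primes below 620 -/
def fac (B : ℕ) : List (ℕ × ℕ) := (prs.filter fun r => B % r == 0).map fun r => (r, vf r 400 B)

theorem fac_prime {B : ℕ} : ∀ x ∈ fac B, x.1.Prime ∧ 0 < x.2 := by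
  intro x hx
  obtain ⟨r, hr, rfl⟩ := List.mem_map.1 hx
  obtain ⟨h1, h2⟩ := List.mem_filter.1 hr
  refine ⟨prs_prime r h1, ?_⟩
  show 0 < vf r (399 + 1) B
  rw [vf, if_pos (by simpa using h2)]
  omega

theorem prs_nodup : prs.Nodup := by decide +kernel

theorem fac_nodup {B : ℕ} : ((fac B).map Prod.fst).Nodup := by
  rw [fac, List.map_map]
  have h1 : (Prod.fst ∘ fun r => (r, vf r 400 B)) = id := rfl
  rw [h1, List.map_id]
  exact prs_nodup.filter _

/-- `gal`, with lists -/
def galC (s e : ℕ) : ℕ :=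
  ((List.range e).map fun j => ((List.range (1 + j)).map fun i => s ^ e - s ^ i).prod /
    ((List.range (1 + j)).map fun i => s ^ (1 + j) - s ^ i).prod).sum

theorem galC_eq (s e : ℕ) : galC s e = gal s e := by
  have h1 : Finset.Icc 1 e = Finset.Ico 1 (e + 1) := by
    ext x
    simp
  rw [gal, h1, Finset.sum_Ico_eq_sum_range, Nat.add_sub_cancel]
  rfl

/-- the bound for `|G|` from the factorisation of a multiple of `|H|` -/
def ubl (l : List (ℕ × ℕ)) (B : ℕ) : ℕ :=
  (1 + ((l.map fun x => gal x.1 x.2).sum * (B / 6) + B ^ 2 / 60 + B ^ 3 / 12744000) * (2 * (B / 6))) * B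

/-- the same, evaluated -/
def UB (B : ℕ) : ℕ :=
  (1 + (((fac B).map fun x => galC x.1 x.2).sum * (B / 6) + B ^ 2 / 60 + B ^ 3 / 12744000) * (2 * (B / 6))) * B

theorem UB_eq (B : ℕ) : UB B = ubl (fac B) B := by
  rw [UB, ubl]
  simp only [galC_eq]

/-- `B` is factored completely -/
def good (B : ℕ) : Bool := ((fac B).map fun x => x.1 ^ x.2).prod == B && Nat.blt B (60 ^ 61)

theorem good_spec {B : ℕ} (h : good B = true) : ((fac B).map fun x => x.1 ^ x.2).prod = B ∧ B < 60 ^ 61 := by
  rw [good, Bool.and_eq_true] at h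
  exact ⟨by simpa using h.1, by simpa [Nat.blt_eq] using h.2⟩

/-- `g` is at most the bound for every multiple of `|H|` (the form in which the index bound is used) -/
def Ub (B g : ℕ) : Prop :=
  ∀ l : List (ℕ × ℕ), (∀ x ∈ l, x.1.Prime ∧ 0 < x.2) → (l.map Prod.fst).Nodup →
    (l.map fun x => x.1 ^ x.2).prod = B → B < 60 ^ 61 → g ≤ ubl l B

theorem Ub.le {B g : ℕ} (h : Ub B g) (hB : good B = true) : g ≤ UB B := by
  obtain ⟨h1, h2⟩ := good_spec hB
  rw [UB_eq]
  exact h _ fac_prime fac_nodup h1 h2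

/-! ### orders -/

/-- the order of the simple group of shape `X` over `l ^ a` -/
def od (X : Art.Sh) (l a : ℕ) : ℕ := (l ^ a) ^ Art.NN X * numL X (l ^ a) / Art.dd X (l ^ a)

theorem real_pos {X : Art.Sh} {l a t : ℕ} (h : Art.Real X l a t) : 0 < Art.dd X (l ^ a) := by
  have hok := h.ok
  cases X <;>
    first
    | exact Nat.one_pos
    | exact Nat.gcd_pos_of_pos_left _ (Nat.succ_pos _)
    | exact Nat.gcd_pos_of_pos_left _ (lt_of_lt_of_le (by norm_num) hok.1)

theorem real_eq {X : Art.Sh} {l a t : ℕ} (h : Art.Real X l a t) : t = od X l a := by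
  rw [od, numL_eq, ← h.eq, Nat.mul_div_cancel_left _ (real_pos h)]

/-- the order of the outer automorphism group -/
def ouN : Art.Sh → ℕ → ℕ → ℕ
  | .L n, l, a => (if n = 2 then 1 else 2) * Nat.gcd n (l ^ a - 1) * a
  | .C m, l, a => (if m = 2 ∧ l = 2 then 2 else 1) * Nat.gcd 2 (l ^ a - 1) * a
  | .U n, l, a => 2 * Nat.gcd n (l ^ a + 1) * a
  | .D m, l, a => (if m = 4 then 6 else 2) * Nat.gcd 4 ((l ^ a) ^ m - 1) * a
  | .DD m, l, a => 2 * Nat.gcd 4 ((l ^ a) ^ m + 1) * a
  | .G2, l, a => (if l = 3 then 2 else 1) * a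
  | .F4, l, a => (if l = 2 then 2 else 1) * a
  | .E6, l, a => 2 * Nat.gcd 3 (l ^ a - 1) * a
  | .E7, l, a => Nat.gcd 2 (l ^ a - 1) * a
  | .E8, _, a => a
  | .TE6, l, a => 2 * Nat.gcd 3 (l ^ a + 1) * a
  | .TD4, _, a => 3 * a
  | .Sz, _, a => a
  | .Ree, _, a => a
  | .TF4, _, a => a

/-- the families -/
def Ys : List Art.Sh := [.E8, .E7, .E6, .TE6, .F4, .TD4, .TF4, .G2]

theorem dd_le {Y : Art.Sh} (hY : Y ∈ Ys) (q : ℕ) : Art.dd Y q ≤ 3 := by
  have h1 : Nat.gcd 3 (q - 1) ≤ 3 := Nat.gcd_le_left _ (by norm_num)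
  have h2 : Nat.gcd 2 (q - 1) ≤ 2 := Nat.gcd_le_left _ (by norm_num)
  have h3 : Nat.gcd 3 (q + 1) ≤ 3 := Nat.gcd_le_left _ (by norm_num)
  simp only [Ys, List.mem_cons, List.not_mem_nil, or_false] at hY
  rcases hY with rfl | rfl | rfl | rfl | rfl | rfl | rfl | rfl <;> simp only [Art.dd] <;> omega

theorem num_mono {Y : Art.Sh} (hY : Y ∈ Ys) {a b : ℕ} (h : a ≤ b) : Art.num Y a ≤ Art.num Y b := by
  have k : ∀ e : ℕ, a ^ e ≤ b ^ e := fun e => Nat.pow_le_pow_left h e
  have k1 : ∀ e : ℕ, a ^ e - 1 ≤ b ^ e - 1 := fun e => Nat.sub_le_sub_right (k e) 1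
  have k2 : ∀ e : ℕ, a ^ e + 1 ≤ b ^ e + 1 := fun e => Nat.add_le_add_right (k e) 1
  have k3 : a - 1 ≤ b - 1 := Nat.sub_le_sub_right h 1
  have k4 : a ^ 8 + a ^ 4 + 1 ≤ b ^ 8 + b ^ 4 + 1 := Nat.add_le_add_right (Nat.add_le_add (k 8) (k 4)) 1
  simp only [Ys, List.mem_cons, List.not_mem_nil, or_false] at hY
  rcases hY with rfl | rfl | rfl | rfl | rfl | rfl | rfl | rfl <;> simp only [Art.num] <;>
    [(apply Nat.mul_le_mul; apply Nat.mul_le_mul; apply Nat.mul_le_mul; apply Nat.mul_le_mul; apply Nat.mul_le_mul; apply Nat.mul_le_mul; apply Nat.mul_le_mul; exact k1 _; exact k1 _; exact k1 _; exact k1 _; exact k1 _; exact k1 _; exact k1 _; exact k1 _);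
     (apply Nat.mul_le_mul; apply Nat.mul_le_mul; apply Nat.mul_le_mul; apply Nat.mul_le_mul; apply Nat.mul_le_mul; apply Nat.mul_le_mul; exact k1 _; exact k1 _; exact k1 _; exact k1 _; exact k1 _; exact k1 _; exact k1 _);
     (apply Nat.mul_le_mul; apply Nat.mul_le_mul; apply Nat.mul_le_mul; apply Nat.mul_le_mul; apply Nat.mul_le_mul; exact k1 _; exact k1 _; exact k1 _; exact k1 _; exact k1 _; exact k1 _);
     (apply Nat.mul_le_mul; apply Nat.mul_le_mul; apply Nat.mul_le_mul; apply Nat.mul_le_mul; apply Nat.mul_le_mul; exact k1 _; exact k2 _; exact k1 _; exact k1 _; exact k2 _; exact k1 _);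
     (repeat' first | exact k1 _ | fail       | exact k3 | fail     | apply Nat.mul_le_mul);
     (apply Nat.mul_le_mul; apply Nat.mul_le_mul; exact k1 _; exact k1 _; exact k4);
     (apply Nat.mul_le_mul; apply Nat.mul_le_mul; apply Nat.mul_le_mul; exact k3; exact k2 _; exact k1 _; exact k2 _);
     (repeat' first | exact k1 _ | exact k2 _ | exact k3 | exact k4 | apply Nat.mul_le_mul)]

/-! ### the test -/

/-- the bounds for `q` -/
def cands : List ℕ := [4, 8, 12, 16, 24, 32, 40, 50, 75, 120, 150, 460, 600, 700, 11500, 18500, 34000, 54000]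

variable {α : Type} [DecidableEq α]

/-- the test for one group of order `t` -/
def test (Y : Art.Sh) (lab : α) (al : List (α × ℕ)) (t l u N : ℕ) : Bool :=
  (List.range N).all fun q => Nat.ble q 1 || (q % l == 0 ||
    force (q ^ Art.NN Y * Art.num Y q) fun v => force (Art.dd Y q) fun d =>
      Nat.blt (u * d) v || (v % (t * d) != 0 || al.contains (lab, q)))

/-- the test with `|H|` a divisor of `B` -/
def chkT (Y : Art.Sh) (lab : α) (al : List (α × ℕ)) (t l B : ℕ) : Bool :=
  good B && force (UB B) fun u =>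
    match cands.find? (fun N => Nat.blt (3 * u) (N ^ Art.NN Y * Art.num Y N)) with
    | none => false
    | some N => test Y lab al t l u N

/-- the test for the region -/
def chk (Y : Art.Sh) (D : ℕ) (al : List ((Art.Sh × ℕ × ℕ) × ℕ)) : Bool :=
  (reg D).all fun x => force (od x.1 x.2.1 x.2.2) fun t => force (ouN x.1 x.2.1 x.2.2 * t) fun B =>
    chkT Y x al t x.2.1 B

theorem chkT_spec {Y : Art.Sh} (hY : Y ∈ Ys) {lab : α} {al : List (α × ℕ)} {t l B : ℕ}
    (h : chkT Y lab al t l B = true) {p f g : ℕ} (hG : Art.Real Y p f g) (hl : p ^ f % l ≠ 0) (hu : Ub B g)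
    (hd : t ∣ g) : (lab, p ^ f) ∈ al := by
  rw [chkT, Bool.and_eq_true, force_eq] at h
  obtain ⟨hB, h⟩ := h
  have hg := hu.le hB
  have hq : 2 ≤ p ^ f := hG.hp.two_le.trans (Nat.le_self_pow (by have := hG.hf; omega) p)
  cases hN : cands.find? (fun N => Nat.blt (3 * UB B) (N ^ Art.NN Y * Art.num Y N)) with
  | none => rw [hN] at h; exact absurd h (by simp)
  | some N =>
    rw [hN] at h
    have h1 := List.find?_some hN
    simp only [Nat.blt_eq] at h1
    have h2 : p ^ f < N := by
      by_contra hcon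
      push Not at hcon
      have h3 : N ^ Art.NN Y * Art.num Y N ≤ (p ^ f) ^ Art.NN Y * Art.num Y (p ^ f) :=
        Nat.mul_le_mul (Nat.pow_le_pow_left hcon _) (num_mono hY hcon)
      rw [← hG.eq] at h3
      have h4 : Art.dd Y (p ^ f) * g ≤ 3 * UB B := Nat.mul_le_mul (dd_le hY _) hg
      omega
    have h3 := List.all_eq_true.1 h (p ^ f) (List.mem_range.2 h2)
    rw [force_eq, force_eq] at h3
    simp only [Bool.or_eq_true, Nat.ble_eq, beq_iff_eq, Nat.blt_eq, bne_iff_ne, List.contains_iff_mem] at h3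
    rcases h3 with h3 | h3 | h3 | h3 | h3
    · omega
    · exact absurd h3 hl
    · exfalso
      rw [← hG.eq, mul_comm] at h3
      exact absurd (Nat.mul_le_mul_left (Art.dd Y (p ^ f)) hg) (by omega)
    · exfalso
      apply h3
      rw [← hG.eq, mul_comm t]
      exact Nat.mod_eq_zero_of_dvd (Nat.mul_dvd_mul_left _ hd)
    · exact h3

/-- **the table for the names of Lie type** -/
theorem chk_spec {Y : Art.Sh} (hY : Y ∈ Ys) {D : ℕ} {al : List ((Art.Sh × ℕ × ℕ) × ℕ)} (hc : chk Y D al = true)
    {X : Art.Sh} {l a t p f g : ℕ} (hT : Art.Real X l a t) (hr : (X, (l, a)) ∈ reg D) (hG : Art.Real Y p f g)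
    (hlp : l ≠ p) (hu : Ub (ouN X l a * t) g) (hd : t ∣ g) : ((X, (l, a)), p ^ f) ∈ al := by
  have h1 := List.all_eq_true.1 hc _ hr
  rw [force_eq, force_eq, ← real_eq hT] at h1
  refine chkT_spec hY h1 hG ?_ hu hd
  intro h2
  have h3 : l ∣ p ^ f := Nat.dvd_of_mod_eq_zero h2
  exact hlp ((Nat.prime_dvd_prime_iff_eq hT.hp hG.hp).1 (hT.hp.dvd_of_dvd_pow h3))

/-! ### alternating groups and the Tits group -/

/-- `|Aut A_n|` -/
def autA (n : ℕ) : ℕ := if n = 6 then 1440 else n.factorial

/-- the test for the alternating groups of degree `5 ≤ n ≤ m` -/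
def chkA (Y : Art.Sh) (m : ℕ) (al : List (ℕ × ℕ)) : Bool :=
  (List.range (m + 1)).all fun n => Nat.blt n 5 || force (n.factorial / 2) fun t => force (autA n) fun B =>
    chkT Y n al t 0 B

theorem chkA_spec {Y : Art.Sh} (hY : Y ∈ Ys) {m : ℕ} {al : List (ℕ × ℕ)} (hc : chkA Y m al = true)
    {n t p f g : ℕ} (h5 : 5 ≤ n) (hn : n ≤ m) (ht : 2 * t = n.factorial) (hG : Art.Real Y p f g)
    (hu : Ub (autA n) g) (hd : t ∣ g) : (n, p ^ f) ∈ al := by
  have h1 := List.all_eq_true.1 hc n (List.mem_range.2 (by omega))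
  rw [force_eq, force_eq, Bool.or_eq_true, Nat.blt_eq, show n.factorial / 2 = t by omega] at h1
  rcases h1 with h1 | h1
  · omega
  refine chkT_spec hY h1 hG ?_ hu hd
  rw [Nat.mod_zero]
  exact pow_ne_zero _ hG.hp.ne_zero

/-- the test for the Tits group -/
def chkTi (Y : Art.Sh) (al : List (Unit × ℕ)) : Bool := chkT Y () al 17971200 0 35942400

end Cfsg.Agent.H252.EN

private theorem dce_51b4aafa6de7 : _root_.True := by
  try have : _root_.True := by simp only [_root_.Cfsg.Agent.H252.EN.vf.eq_2]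
  try have : _root_.True := by simp only [_root_.Cfsg.Agent.H252.EN.od.eq_1]
  try have : _root_.True := by simp only [_root_.Cfsg.Agent.H59.EP.gal.eq_1]
  try have : _root_.True := by simp only [_root_.Cfsg.Agent.H252.EN.vf.eq_def]
  try have : _root_.True := by simp only [_root_.Cfsg.Agent.H252.EN.UB.eq_1]
  try have : _root_.True := by simp only [_root_.Cfsg.Agent.H252.EN.ubl.eq_1]
  try have : _root_.True := by simp only [_root_.Cfsg.Agent.H252.EN.fac.eq_1]
  try have : _root_.True := by simp only [_root_.Cfsg.Agent.H252.EN.good.eq_1]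
  try have : _root_.True := by simp only [_root_.Cfsg.Agent.H252.EN.chkT.eq_1]
  try have : _root_.True := by simp only [_root_.Cfsg.Agent.H252.EN.vf.eq_1]
  try have : _root_.True := by simp only [_root_.Cfsg.Agent.H252.EN.Ys.eq_1]
  exact _root_.True.intro
end
end
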