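import Cfsg.Agent.H357.EP.Signs_m3
import Cfsg.Prelude.Def_Spor_J2
import Cfsg.Prelude.Def_Spor_J3
import Cfsg.Prelude.Def_Spor_He
import Cfsg.Prelude.Def_Spor_Suz
import Cfsg.Prelude.Def_Spor_ON
import Cfsg.Prelude.Def_Spor_Fi22
import Cfsg.Prelude.Def_Spor_HN
import Cfsg.Prelude.Def_Spor_Th
import Cfsg.Agent.H783.EX.Rank
import Cfsg.Agent.LieClassical.SUBasic
import Cfsg.Agent.ClassificationK.GTwoChev
import Cfsg.Agent.ChevalleyStructure.Good
import Cfsg.Agent.H209.EPX.Defs_m3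
import Cfsg.Agent.H129.FE.Grp
import Cfsg.Agent.S1679
import Cfsg.Agent.H806.LsFiTwo_m3
import Cfsg.Agent.Lib.FinFast
import Cfsg.Agent.FastGrp
import Cfsg.Agent.Prune
set_option linter.all false

section
prune_inst 0x7ff1bdff5ff8fffedfff7e7faed7fffdfdfbffffffdff9cbffe8e3ff3fdf7b0acde57bad8fe8d2fd1e96c2b610fa7b53fbfffeffe86ffc7ffffdfff45ffbffdffdf6bd08519e8cb40fbc0ff703f07fce7f3fffffffffffffffffffffffffffbeffffffffffff

-- part: H805/EPX/Rows
section
set_option linter.all false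

/-!
# S5745, sporadic socles: the rows which orders and the index bound leave (helper805)

`Rows` : the 19 rows (family, `q`, `T`). All other pairs (sporadic `T`, family, `q`) are killed in `H805/EPX/*`:
the glue is `spor_e8, spor_e7, spor_e6, spor_te6, spor_f4, spor_td4 : Rows → ... → Spor G`.
-/

set_option autoImplicit false

namespace Cfsg.Agent.H805.EPX

open Cfsg.Agent.H284 Cfsg.Agent.H209.EPX

/-- no stabiliser `H` with simple socle `N ≅ T`, `T` in the class `P` -/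
def NoRow (P : (T : Type) → [Group T] → Prop) (G : Type) [Group G] : Prop :=
  ∀ (H N : Subgroup G) (T : Type) [Group T] (e : N ≃* (Fin 1 → T)), EPS H N e → P T → False

/-- the rows -/
structure Rows : Prop where
  e8_2_Th : ∀ (F : Type) [Field F] [Fintype F] [IsSimpleGroup ↥(Lie.chevE8.group F)], Fintype.card F = 2 →
    NoRow (fun T _ => Spor.IsoTh T) ↥(Lie.chevE8.group F)
  e7_2_He : ∀ (F : Type) [Field F] [Fintype F] [IsSimpleGroup ↥(Lie.chevE7.group F)], Fintype.card F = 2 →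
    NoRow (fun T _ => Spor.IsoHe T) ↥(Lie.chevE7.group F)
  e7_2_ON : ∀ (F : Type) [Field F] [Fintype F] [IsSimpleGroup ↥(Lie.chevE7.group F)], Fintype.card F = 2 →
    NoRow (fun T _ => Spor.IsoON T) ↥(Lie.chevE7.group F)
  e7_2_Suz : ∀ (F : Type) [Field F] [Fintype F] [IsSimpleGroup ↥(Lie.chevE7.group F)], Fintype.card F = 2 →
    NoRow (fun T _ => Spor.IsoSuz T) ↥(Lie.chevE7.group F)
  e7_2_Fi22 : ∀ (F : Type) [Field F] [Fintype F] [IsSimpleGroup ↥(Lie.chevE7.group F)], Fintype.card F = 2 →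
    NoRow (fun T _ => Spor.IsoFi22 T) ↥(Lie.chevE7.group F)
  e7_3_Fi22 : ∀ (F : Type) [Field F] [Fintype F] [IsSimpleGroup ↥(Lie.chevE7.group F)], Fintype.card F = 3 →
    NoRow (fun T _ => Spor.IsoFi22 T) ↥(Lie.chevE7.group F)
  e6_2_He : ∀ (F : Type) [Field F] [Fintype F] [IsSimpleGroup ↥(Lie.chevE6.group F)], Fintype.card F = 2 →
    NoRow (fun T _ => Spor.IsoHe T) ↥(Lie.chevE6.group F)
  e6_3_Suz : ∀ (F : Type) [Field F] [Fintype F] [IsSimpleGroup ↥(Lie.chevE6.group F)], Fintype.card F = 3 →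
    NoRow (fun T _ => Spor.IsoSuz T) ↥(Lie.chevE6.group F)
  e6_3_Fi22 : ∀ (F : Type) [Field F] [Fintype F] [IsSimpleGroup ↥(Lie.chevE6.group F)], Fintype.card F = 3 →
    NoRow (fun T _ => Spor.IsoFi22 T) ↥(Lie.chevE6.group F)
  e6_4_Suz : ∀ (F : Type) [Field F] [Fintype F] [IsSimpleGroup ↥(Lie.chevE6.group F)], Fintype.card F = 4 →
    NoRow (fun T _ => Spor.IsoSuz T) ↥(Lie.chevE6.group F)
  e6_4_ON : ∀ (F : Type) [Field F] [Fintype F] [IsSimpleGroup ↥(Lie.chevE6.group F)], Fintype.card F = 4 →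
    NoRow (fun T _ => Spor.IsoON T) ↥(Lie.chevE6.group F)
  e6_4_Fi22 : ∀ (F : Type) [Field F] [Fintype F] [IsSimpleGroup ↥(Lie.chevE6.group F)], Fintype.card F = 4 →
    NoRow (fun T _ => Spor.IsoFi22 T) ↥(Lie.chevE6.group F)
  e6_5_HN : ∀ (F : Type) [Field F] [Fintype F] [IsSimpleGroup ↥(Lie.chevE6.group F)], Fintype.card F = 5 →
    NoRow (fun T _ => Spor.IsoHN T) ↥(Lie.chevE6.group F)
  f4_2_J2 : ∀ (F : Type) [Field F] [Fintype F] [IsSimpleGroup ↥(Lie.chevF4.group F)], Fintype.card F = 2 →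
    NoRow (fun T _ => Spor.IsoJ2 T) ↥(Lie.chevF4.group F)
  te6_2_J2 : ∀ (K : Type) [Field K] [Fintype K] [IsSimpleGroup ↥(Lie.twistedE6 K 2)], Fintype.card K = 4 →
    NoRow (fun T _ => Spor.IsoJ2 T) ↥(Lie.twistedE6 K 2)
  te6_2_J3 : ∀ (K : Type) [Field K] [Fintype K] [IsSimpleGroup ↥(Lie.twistedE6 K 2)], Fintype.card K = 4 →
    NoRow (fun T _ => Spor.IsoJ3 T) ↥(Lie.twistedE6 K 2)
  te6_2_Suz : ∀ (K : Type) [Field K] [Fintype K] [IsSimpleGroup ↥(Lie.twistedE6 K 2)], Fintype.card K = 4 →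
    NoRow (fun T _ => Spor.IsoSuz T) ↥(Lie.twistedE6 K 2)
  te6_2_Fi22 : ∀ (K : Type) [Field K] [Fintype K] [IsSimpleGroup ↥(Lie.twistedE6 K 2)], Fintype.card K = 4 →
    NoRow (fun T _ => Spor.IsoFi22 T) ↥(Lie.twistedE6 K 2)
  td4_4_J2 : ∀ (K : Type) [Field K] [Fintype K] [IsSimpleGroup ↥(Lie.twistedD4 K 4)], Fintype.card K = 64 →
    NoRow (fun T _ => Spor.IsoJ2 T) ↥(Lie.twistedD4 K 4)

end Cfsg.Agent.H805.EPX
end

-- part: H357/EP/V27
section
set_option linter.all false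
open scoped Cfsg.Agent.FastGrp

-- part: H357/EP/Pure34
section
/-!
# S5745, the kill V27: a pure `2 ^ 4` in `SL₃(4)` (helper357)

* `not_inE6_hom` : no homomorphism `SL₃(4) → T` that is not trivial on the transvections if `T` embeds into `E₆(q)`, `q` odd.
-/

set_option autoImplicit false

namespace Cfsg.Agent.H357.EP

open Matrix

section

variable {F : Type*} [Field F]

end

end Cfsg.Agent.H357.EP
end

-- part: H357/EP/Uni62
section
/-!
# S5745, the kill V27: a `2 ^ 7` in `U₆(2)` (helper357)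

* `not_inE6_psu6` : `PSU₆(2)` does not embed into `E₆(q)`, `²E₆(q)`, `q` odd.
-/

set_option autoImplicit false

namespace Cfsg.Agent.H357.EP

open Matrix

section

variable {F : Type*} [Field F]

/-- the 6 × 3 matrix of a totally isotropic basis -/
def Bm (F : Type*) [Field F] : Matrix (Fin 6) (Fin 3) F := !![1, 0, 0; 1, 0, 0; 0, 1, 0; 0, 1, 0; 0, 0, 1; 0, 0, 1]

/-- Hermitian matrices -/
def hm (a b c t : F) : Matrix (Fin 3) (Fin 3) F := !![t, a, b; a ^ 2, 0, c; b ^ 2, c ^ 2, 0]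

theorem BtB (h2 : (2 : F) = 0) : (Bm F)ᵀ * Bm F = 0 := by
  have h : (1 : F) + 1 = 0 := by rw [one_add_one_eq_two, h2]
  ext i j
  (revert i j; simp only [Bm, Matrix.mul_apply, Fin.sum_univ_six, h, _root_.Fin.forall_fin_succ, _root_.Matrix.transpose_apply, _root_.Matrix.of_apply, _root_.Matrix.cons_val', _root_.Matrix.cons_val_fin_one, Fin.isValue, _root_.Matrix.cons_val_zero, _root_.Matrix.cons_val_one, _root_.Matrix.cons_val, _root_.Matrix.zero_apply, _root_.mul_one, _root_.MulZeroClass.mul_zero, _root_.add_zero, _root_.Matrix.cons_val_succ, _root_.zero_add, _root_.forall_const, _root_.and_self, _root_.implies_true])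

/-- the unipotent matrix -/
def um (H : Matrix (Fin 3) (Fin 3) F) : Matrix (Fin 6) (Fin 6) F := 1 + Bm F * H * (Bm F)ᵀ

theorem um_mul (h2 : (2 : F) = 0) (H K : Matrix (Fin 3) (Fin 3) F) : um H * um K = um (H + K) := by
  have h : Bm F * H * (Bm F)ᵀ * (Bm F * K * (Bm F)ᵀ) = 0 := by
    calc _ = Bm F * H * ((Bm F)ᵀ * Bm F) * K * (Bm F)ᵀ := by simp only [Matrix.mul_assoc]
      _ = 0 := by rw [BtB h2, Matrix.mul_zero, Matrix.zero_mul, Matrix.zero_mul]
  unfold um
  rw [Matrix.add_mul, Matrix.mul_add, Matrix.mul_add, h, Matrix.mul_add, Matrix.add_mul]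
  simp only [one_mul, mul_one, add_zero]
  abel

theorem um_zero : um (0 : Matrix (Fin 3) (Fin 3) F) = 1 := by
  unfold um; rw [Matrix.mul_zero, Matrix.zero_mul, add_zero]

theorem um_sq (h2 : (2 : F) = 0) (H : Matrix (Fin 3) (Fin 3) F) : um H * um H = 1 := by
  rw [um_mul h2, ← two_smul F, h2, zero_smul, um_zero]

theorem um_det (h2 : (2 : F) = 0) (H : Matrix (Fin 3) (Fin 3) F) : (um H).det = 1 := by
  have h := congrArg Matrix.det (um_sq h2 H)
  rw [Matrix.det_mul, Matrix.det_one] at h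
  have h3 : ((um H).det - 1) * ((um H).det - 1) = 0 := by linear_combination h + (1 - (um H).det) * h2
  exact sub_eq_zero.1 (mul_self_eq_zero.1 h3)

theorem um_form [CharP F 2] (h2 : (2 : F) = 0) {H : Matrix (Fin 3) (Fin 3) F} (hH : H.map (fun x => x ^ 2) = Hᵀ)
    (u v : Fin 6 → F) : hermForm 6 F 2 (um H *ᵥ u) (um H *ᵥ v) = hermForm 6 F 2 u v := by
  have hf : ∀ u v : Fin 6 → F, hermForm 6 F 2 u v = u ⬝ᵥ (fun i => v i ^ 2) := fun u v => rfl
  have hm : ∀ (M : Matrix (Fin 6) (Fin 6) F) (v : Fin 6 → F), (fun i => (M *ᵥ v) i ^ 2) =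
      M.map (fun x => x ^ 2) *ᵥ (fun i => v i ^ 2) := by
    intro M v
    funext i
    rw [Matrix.mulVec, Matrix.mulVec, dotProduct, dotProduct, sum_pow_char]
    simp [mul_pow]
  have hs : (um H).map (fun x => x ^ 2) = um (Hᵀ) := by
    have h3 : (um H).map (frobenius F 2) = um (H.map (frobenius F 2)) := by
      unfold um
      rw [Matrix.map_add _ (map_add _), Matrix.map_mul, Matrix.map_mul, Matrix.map_one _ (map_zero _) (map_one _)]
      have h4 : (Bm F).map (frobenius F 2) = Bm F := by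
        ext i j
        (revert i j; simp only [Bm, _root_.Fin.forall_fin_succ, _root_.Matrix.map_apply, _root_.Matrix.of_apply, _root_.Matrix.cons_val', _root_.Matrix.cons_val_fin_one, Fin.isValue, _root_.Matrix.cons_val_zero, _root_.Matrix.cons_val_succ, _root_.forall_const, _root_.map_one, _root_.map_zero, _root_.and_self, _root_.and_self_left, _root_.implies_true])
      have h5 : ((Bm F)ᵀ).map (frobenius F 2) = (Bm F)ᵀ := congrArg Matrix.transpose h4
      rw [h4, h5]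
    have h6 : H.map (frobenius F 2) = Hᵀ := hH
    rw [h6] at h3
    exact h3
  have ht : (um H)ᵀ = um (Hᵀ) := by
    unfold um
    rw [Matrix.transpose_add, Matrix.transpose_one, Matrix.transpose_mul, Matrix.transpose_mul,
      Matrix.transpose_transpose, Matrix.mul_assoc]
  rw [hf, hf, hm, hs, Matrix.dotProduct_mulVec, ← Matrix.vecMul_transpose, Matrix.vecMul_vecMul, ht, um_sq h2,
    Matrix.vecMul_one]

/-- the entries of `um (hm a b c t)` -/
theorem um_hm (a b c t : F) : um (hm a b c t) 0 1 = t ∧ um (hm a b c t) 0 2 = a ∧ um (hm a b c t) 0 4 = b ∧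
    um (hm a b c t) 2 4 = c := by
  refine ⟨?_, ?_, ?_, ?_⟩ <;>
  · rw [um, Matrix.add_apply, Matrix.mul_apply, Fin.sum_univ_three, Matrix.mul_apply, Matrix.mul_apply,
      Matrix.mul_apply, Fin.sum_univ_three, Fin.sum_univ_three, Fin.sum_univ_three]
    simp [hm, Bm]

end

/-- **`U₆(2)` does not embed into `E₆(q)`, `²E₆(q)`, `q` odd** -/
theorem not_inE6_psu6 {F : Type} [Field F] [Fintype F] (hF : Fintype.card F = 4) : ¬ InE6 (PSU 6 F 2) := by
  classical
  intro h
  have h2 : (2 : F) = 0 := by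
    have h4 : ((4 : ℕ) : F) = 0 := by rw [← hF]; exact Nat.cast_card_eq_zero F
    have : (2 : F) * 2 = 0 := by norm_num only [] at h4 ⊢; exact_mod_cast h4
    exact mul_self_eq_zero.1 this
  have : CharP F 2 := CharTwo.of_one_ne_zero_of_two_eq_zero one_ne_zero h2
  have h4 : ∀ x : F, (x ^ 2) ^ 2 = x := fun x => by
    rw [← pow_mul, show 2 * 2 = Fintype.card F by rw [hF]]
    exact FiniteField.pow_card x
  let ι : ZMod 2 →+* F := ZMod.castHom (dvd_refl 2) F
  have hι : ∀ t, ι t ^ 2 = ι t := by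
    intro t
    rw [← map_pow]
    congr 1
    revert t
    decide
  let A := Multiplicative (F × F × F × ZMod 2)
  let Hm : A → Matrix (Fin 3) (Fin 3) F := fun x => hm x.toAdd.1 x.toAdd.2.1 x.toAdd.2.2.1 (ι x.toAdd.2.2.2)
  have hH : ∀ x, (Hm x).map (fun x => x ^ 2) = (Hm x)ᵀ := by
    intro x
    ext i j
    (revert i j; simp only [Hm, hm, h4, hι, _root_.Fin.forall_fin_succ, _root_.Matrix.map_apply, _root_.Matrix.of_apply, _root_.Matrix.cons_val', _root_.Matrix.cons_val_fin_one, _root_.Matrix.transpose_apply, Fin.isValue, _root_.Matrix.cons_val_zero, _root_.Matrix.cons_val_succ, _root_.forall_const, _root_.and_self, _root_.ne_eq, _root_.OfNat.ofNat_ne_zero, _root_.not_false_eq_true, _root_.zero_pow, _root_.implies_true])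
  have hadd : ∀ x y, Hm (x * y) = Hm x + Hm y := by
    intro x y
    show hm (x.toAdd.1 + y.toAdd.1) (x.toAdd.2.1 + y.toAdd.2.1) (x.toAdd.2.2.1 + y.toAdd.2.2.1)
      (ι (x.toAdd.2.2.2 + y.toAdd.2.2.2)) = hm _ _ _ _ + hm _ _ _ _
    ext i j
    (revert i j; simp only [hm, CharTwo.add_sq, _root_.Fin.forall_fin_succ, _root_.map_add, _root_.Matrix.of_apply, _root_.Matrix.cons_val', _root_.Matrix.cons_val_fin_one, _root_.Matrix.add_apply, Fin.isValue, _root_.Matrix.cons_val_zero, _root_.Matrix.cons_val_succ, _root_.forall_const, _root_.and_self, _root_.add_zero, _root_.implies_true])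
  let f : A →* SU 6 F 2 := MonoidHom.mk' (fun x => ⟨⟨um (Hm x), um_det h2 _⟩, um_form h2 (hH x)⟩) (by
    intro x y
    apply Subtype.ext
    apply Subtype.ext
    show um (Hm (x * y)) = um (Hm x) * um (Hm y)
    rw [um_mul h2, hadd])
  have hinj : Function.Injective ((QuotientGroup.mk' (Subgroup.center (SU 6 F 2))).comp f) := by
    rw [injective_iff_map_eq_one]
    intro x hx
    have h5 : f x ∈ Subgroup.center (SU 6 F 2) := (QuotientGroup.eq_one_iff _).1 hx
    obtain ⟨r, hr, hr', h6⟩ := (Cfsg.Agent.LieClassical.SUBasic.mem_center_SU_iff (n := 6) (q := 2)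
      (by rw [hF]; norm_num) (by norm_num) (f x)).1 h5
    have h7 : um (Hm x) = Matrix.diagonal fun _ => r := by
      have h8 : um (Hm x) = ((f x : _root_.Matrix.SpecialLinearGroup (Fin 6) F) : Matrix (Fin 6) (Fin 6) F) := rfl
      rw [h8, h6]
      exact Cfsg.Agent.LieClassical.SUBasic.coe_suScalar 2 r hr hr'
    obtain ⟨e1, e2, e3, e4⟩ := um_hm x.toAdd.1 x.toAdd.2.1 x.toAdd.2.2.1 (ι x.toAdd.2.2.2)
    change um (Hm x) 0 1 = _ at e1
    change um (Hm x) 0 2 = _ at e2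
    change um (Hm x) 0 4 = _ at e3
    change um (Hm x) 2 4 = _ at e4
    rw [h7, Matrix.diagonal_apply_ne _ (by decide)] at e1 e2 e3 e4
    apply Multiplicative.toAdd.injective
    refine Prod.ext e2.symm (Prod.ext e3.symm (Prod.ext e4.symm ?_))
    apply ι.injective
    rw [← e1]
    exact (map_zero ι).symm
  have hA : Nat.card A = 128 := by
    rw [Nat.card_congr Multiplicative.toAdd, Nat.card_prod, Nat.card_prod, Nat.card_prod, Nat.card_eq_fintype_card, hF,
      Nat.card_eq_fintype_card, ZMod.card]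
  refine h.no_seven ((QuotientGroup.mk' (Subgroup.center (SU 6 F 2))).comp f).range ?_ ?_
  · rintro _ ⟨x, rfl⟩
    rw [← map_mul]
    have : x * x = 1 := by
      apply Multiplicative.toAdd.injective
      have hz : ∀ a : F, a + a = 0 := fun a => by rw [← two_mul, h2, zero_mul]
      refine Prod.ext (hz _) (Prod.ext (hz _) (Prod.ext (hz _) ?_))
      exact CharTwo.add_self_eq_zero _
    rw [this, map_one]
  · rw [← Nat.card_congr (MonoidHom.ofInjective hinj).toEquiv, hA]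
    norm_num

end Cfsg.Agent.H357.EP
end

-- part: H357/EP/O8Tab
section
/-!
# S5745, the kill V27: tables for the `2 ^ 6` of `Ω₈⁺(2)` (helper357)

* `InE6.sum_hom` : the sum of the traces;
* the orbits of the transvections of `SL₄(2)` on the alternating matrices.
-/

set_option autoImplicit false

namespace Cfsg.Agent.H357.EP

open Matrix

/-! ### The criterion for homomorphisms -/

/-- the sum of the traces, by two sets of involutions -/
theorem InE6.sum_hom {T : Type*} [Group T] (h : InE6 T) {A : Type*} [Group A] [Fintype A] (hA : ∀ x : A, x * x = 1)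
    (f : A →* T) (hf : Function.Injective f) (C : A → Prop) [DecidablePred C] {u v : T}
    (hC : ∀ x, x ≠ 1 → C x → IsConj u (f x)) (hC' : ∀ x, x ≠ 1 → ¬ C x → IsConj v (f x)) [DecidableEq A] :
    ∃ a b : ℤ, ∃ m : ℕ, (a = 3 ∨ a = -5) ∧ (b = 3 ∨ b = -5) ∧
      27 + a * (Finset.univ.filter fun x : A => x ≠ 1 ∧ C x).card +
        b * (Finset.univ.filter fun x : A => x ≠ 1 ∧ ¬ C x).card = Fintype.card A * (m : ℤ) := by
  classical
  obtain ⟨F, i1, i2, ho, g, hg⟩ := h
  obtain ⟨β, h1, h2, h3, ⟨m, h4⟩, -⟩ := EP.beta ho (E := A) hA (g.comp f) (hg.comp hf)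
  have key : ∀ (D : A → Prop) (w : T), (∀ x, x ≠ 1 → D x → IsConj w (f x)) → ∃ a : ℤ, (a = 3 ∨ a = -5) ∧
      ∀ x, x ≠ 1 → D x → β x = a := by
    intro D w hD
    by_cases hne : ∃ x, x ≠ 1 ∧ D x
    · obtain ⟨x, hx, hxD⟩ := hne
      refine ⟨β x, h2 x hx, fun y hy hyD => h3 y x ?_⟩
      exact MonoidHom.map_isConj g ((hD y hy hyD).symm.trans (hD x hx hxD))
    · push Not at hne
      exact ⟨3, Or.inl rfl, fun x hx hxD => absurd hxD (hne x hx)⟩
  obtain ⟨a, ha, ha'⟩ := key C u hC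
  obtain ⟨b, hb, hb'⟩ := key (fun x => ¬ C x) v hC'
  refine ⟨a, b, m, ha, hb, ?_⟩
  rw [← h4]
  have h6 : ∀ x : A, β x = (if x = 1 then 27 else 0) + (a * (if x ≠ 1 ∧ C x then 1 else 0) +
      b * (if x ≠ 1 ∧ ¬ C x then 1 else 0)) := by
    intro x
    by_cases hx : x = 1
    · simp [hx, h1]
    · by_cases hxC : C x
      · simp [hx, hxC, ha' x hx hxC]
      · simp [hx, hxC, hb' x hx hxC]
  rw [Finset.sum_congr rfl fun x _ => h6 x, Finset.sum_add_distrib, Finset.sum_add_distrib, ← Finset.mul_sum,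
    ← Finset.mul_sum, Finset.sum_ite_eq' Finset.univ (1 : A), if_pos (Finset.mem_univ _), Finset.sum_boole,
    Finset.sum_boole]
  ring

namespace OE

/-! ### Tables over `𝔽₂` -/

abbrev Z := ZMod 2
abbrev M4 := Matrix (Fin 4) (Fin 4) Z

/-- the transvection `1 + e_ij` -/
def T (i j : Fin 4) : M4 := fun x y => (if x = y then 1 else 0) + (if x = i ∧ y = j then 1 else 0)

/-- the alternating matrix -/
def al (a : Fin 6 → Z) : M4 := !![0, a 0, a 1, a 2; a 0, 0, a 3, a 4; a 1, a 3, 0, a 5; a 2, a 4, a 5, 0]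

/-- the Pfaffian -/
def pf (a : Fin 6 → Z) : Z := a 0 * a 5 + a 1 * a 4 + a 2 * a 3

def path : List (List (Fin 4 × Fin 4)) := [[], [], [(1, 2), (2, 1)], [(2, 1)], [(1, 3), (3, 1)], [(3, 1)], [(3, 2), (1, 2), (2, 1)], [(3, 1), (2, 1)],
  [(0, 2), (2, 0)], [(2, 0)], [(0, 2), (0, 1), (2, 0)], [(0, 1), (2, 0)], [(2, 0), (1, 3), (0, 2)],
  [(2, 0), (0, 2)], [(2, 0), (1, 3), (0, 3), (0, 2)], [(2, 0), (0, 3), (0, 2)], [(0, 3), (3, 0)], [(3, 0)],
  [(2, 1), (1, 2), (0, 3)], [(3, 0), (0, 3)], [(0, 3), (0, 1), (3, 0)], [(0, 1), (3, 0)],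
  [(2, 0), (1, 2), (0, 3), (0, 2)], [(3, 0), (0, 3), (0, 2)], [(3, 2), (0, 2), (2, 0)], [(3, 0), (2, 0)],
  [(2, 1), (1, 2), (1, 0), (0, 3)], [(3, 0), (1, 0), (0, 3)], [(2, 0), (1, 3), (1, 0), (0, 2)],
  [(2, 0), (1, 0), (0, 2)], [(3, 2), (0, 2), (0, 1), (2, 0)], [(3, 2), (0, 1), (2, 0)],
  [(1, 3), (3, 1), (0, 2), (2, 0)], [], [(3, 0), (1, 2), (2, 1)], [(0, 3)], [(1, 3), (3, 1), (2, 0)], [(0, 2)],
  [(1, 3), (3, 1), (0, 1), (2, 0)], [(0, 3), (0, 2)], [(3, 1), (0, 2), (2, 0)], [(1, 3)],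
  [(3, 0), (0, 2), (0, 1), (2, 0)], [(1, 0), (0, 3)], [(1, 3), (0, 2)], [(3, 1), (2, 0)],
  [(1, 3), (0, 3), (0, 2)], [(3, 1), (0, 1), (2, 0)], [(0, 3), (3, 0), (2, 1)], [(1, 2)], [(1, 2), (0, 3)],
  [(3, 0), (2, 1)], [(1, 3), (3, 1), (3, 0), (2, 0)], [(1, 0), (0, 2)], [(1, 2), (0, 3), (0, 2)],
  [(0, 1), (3, 0), (2, 1)], [(0, 3), (3, 0), (0, 1), (2, 0)], [(1, 3), (1, 2)], [(1, 2), (1, 0), (0, 3)],
  [(3, 0), (0, 1), (2, 0)], [(1, 3), (1, 0), (0, 2)], [(3, 1), (3, 0), (2, 0)], [(0, 2), (3, 0), (0, 1), (2, 0)],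
  [(1, 0), (0, 3), (0, 2)]]

/-- the code of a vector -/
def cod (a : Fin 6 → Z) : ℕ := (a 0).val + 2 * (a 1).val + 4 * (a 2).val + 8 * (a 3).val + 16 * (a 4).val +
  32 * (a 5).val

/-- the coordinates of an alternating matrix -/
def coo (A : M4) : Fin 6 → Z := ![A 0 1, A 0 2, A 0 3, A 1 2, A 1 3, A 2 3]

/-- the action of the transvection -/
def act (a : Fin 6 → Z) (p : Fin 4 × Fin 4) : Fin 6 → Z := coo (T p.1 p.2 * al a * (T p.1 p.2)ᵀ)

private theorem al_coo (g : M4) (a : Fin 6 → Z) : g * al a * gᵀ = al (coo (g * al a * gᵀ)) := by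
  have h1 : (al a)ᵀ = al a := by
    ext i j
    fin_cases i <;> fin_cases j <;> rfl
  have h2 : ∀ x y, (g * al a * gᵀ) x y = (g * al a * gᵀ) y x := fun x y => by
    rw [← transpose_apply (g * al a * gᵀ), transpose_mul, transpose_mul, transpose_transpose, h1, Matrix.mul_assoc]
  have h3 : ∀ x, (g * al a * gᵀ) x x = 0 := fun x => by
    have h : (2 : Z) = 0 := rfl
    have e : (g * al a * gᵀ) x x =
        (g x 0 * 0 + g x 1 * a 0 + g x 2 * a 1 + g x 3 * a 2) * g x 0 +
        (g x 0 * a 0 + g x 1 * 0 + g x 2 * a 3 + g x 3 * a 4) * g x 1 +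
        (g x 0 * a 1 + g x 1 * a 3 + g x 2 * 0 + g x 3 * a 5) * g x 2 +
        (g x 0 * a 2 + g x 1 * a 4 + g x 2 * a 5 + g x 3 * 0) * g x 3 := by
      simp only [Matrix.mul_apply, Fin.sum_univ_four]
      rfl
    rw [e]
    linear_combination (g x 0 * g x 1 * a 0 + g x 0 * g x 2 * a 1 + g x 0 * g x 3 * a 2 + g x 1 * g x 2 * a 3 +
      g x 1 * g x 3 * a 4 + g x 2 * g x 3 * a 5) * h
  generalize g * al a * gᵀ = B at h2 h3
  ext i j
  fin_cases i <;> fin_cases j <;> first | rfl | exact h3 _ | exact h2 _ _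

private def act' (a : Fin 6 → Z) (p : Fin 4 × Fin 4) : Fin 6 → Z :=
  coo fun x y => (al a x y + if x = p.1 then al a p.2 y else 0) +
    if y = p.1 then al a x p.2 + if x = p.1 then al a p.2 p.2 else 0 else 0

private theorem act_eq : act = act' := by
  have h1 : ∀ (i j : Fin 4) (A : M4), T i j * A = fun x y => A x y + if x = i then A j y else 0 := fun i j A => by
    ext x y
    simp only [T, Matrix.mul_apply, add_mul, Finset.sum_add_distrib, ite_and, ite_mul, one_mul, zero_mul,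
      Finset.sum_ite_eq, Finset.mem_univ, if_true, Finset.sum_ite_irrel, Finset.sum_ite_eq', Finset.sum_const_zero]
  have h2 : ∀ (i j : Fin 4) (A : M4), A * (T i j)ᵀ = fun x y => A x y + if y = i then A x j else 0 := fun i j A => by
    ext x y
    simp only [T, Matrix.mul_apply, transpose_apply, mul_add, Finset.sum_add_distrib, ite_and, mul_ite, mul_one, mul_zero,
      Finset.sum_ite_eq, Finset.mem_univ, if_true, Finset.sum_ite_irrel, Finset.sum_ite_eq', Finset.sum_const_zero]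
  funext a p
  exact congrArg coo ((h2 _ _ _).trans (by rw [h1]))

private def dc (n : ℕ) : Fin 6 → Z := fun k => (⟨Nat.mod (Nat.shiftRight n k.1) 2, Nat.mod_lt _ (by decide)⟩ : Fin 2)

private noncomputable def run (l : List (Fin 4 × Fin 4)) : ℕ → ℕ :=
  List.rec (fun n => n) (fun p _ ih n => Nat.rec (ih 0) (fun m _ => ih (Nat.succ m)) (cod (act' (dc n) p))) l

private theorem dc_cod : ∀ a : Fin 6 → Z, dc (cod a) = a ∧ cod a < 64 := by decide +kernel

set_option maxRecDepth 100000 in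
theorem tab_act0 : ∀ a : Fin 6 → Z, ∀ j : Fin 4, 0 ≠ j → T 0 j * al a * (T 0 j)ᵀ = al (act a (0, j)) :=
  fun a _ _ => al_coo _ a

set_option maxRecDepth 100000 in
theorem tab_act1 : ∀ a : Fin 6 → Z, ∀ j : Fin 4, 1 ≠ j → T 1 j * al a * (T 1 j)ᵀ = al (act a (1, j)) :=
  fun a _ _ => al_coo _ a

set_option maxRecDepth 100000 in
theorem tab_act2 : ∀ a : Fin 6 → Z, ∀ j : Fin 4, 2 ≠ j → T 2 j * al a * (T 2 j)ᵀ = al (act a (2, j)) :=
  fun a _ _ => al_coo _ a

set_option maxRecDepth 100000 in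
theorem tab_act3 : ∀ a : Fin 6 → Z, ∀ j : Fin 4, 3 ≠ j → T 3 j * al a * (T 3 j)ᵀ = al (act a (3, j)) :=
  fun a _ _ => al_coo _ a

theorem tab_act : ∀ a : Fin 6 → Z, ∀ i j : Fin 4, i ≠ j → T i j * al a * (T i j)ᵀ = al (act a (i, j))
  | a, 0, j, h => tab_act0 a j h
  | a, 1, j, h => tab_act1 a j h
  | a, 2, j, h => tab_act2 a j h
  | a, 3, j, h => tab_act3 a j h

private noncomputable def _root_.Cfsg.Agent.LsF.ff12b1b_0 : {f // @Cfsg.Agent.H357.EP.OE.cod = f} := ⟨_, by first | (delta Cfsg.Agent.H357.EP.OE.cod; rewrite [Cfsg.Agent.LsF.nadd_pat, Cfsg.Agent.LsF.nmul_pat, Cfsg.Agent.LsF.zval_eq]; exact rfl) | exact rfl⟩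
private noncomputable def _root_.Cfsg.Agent.LsF.ff12b1b_1 : {f // @Cfsg.Agent.H357.EP.OE.coo = f} := ⟨_, by first | (delta Cfsg.Agent.H357.EP.OE.coo; rewrite [Cfsg.Agent.LsF.vecCons_eq]; exact rfl) | exact rfl⟩
private noncomputable def _root_.Cfsg.Agent.LsF.ff12b1b_2 : {f // @Cfsg.Agent.H357.EP.OE.al = f} := ⟨_, by first | (delta Cfsg.Agent.H357.EP.OE.al; rewrite [Cfsg.Agent.LsF.mof_pat, Cfsg.Agent.LsF.vecCons_eq]; exact rfl) | exact rfl⟩
private noncomputable def _root_.Cfsg.Agent.LsF.ff12b1b_3 : {f // @Cfsg.Agent.H357.EP.OE.act' = f} := ⟨_, by first | (delta Cfsg.Agent.H357.EP.OE.act'; rewrite [Cfsg.Agent.LsF.ff12b1b_1.2, Cfsg.Agent.LsF.ff12b1b_2.2, Cfsg.Agent.LsF.zadd_pat, Cfsg.Agent.LsF.dFinEq_eq, Cfsg.Agent.LsF.ite_eq]; exact rfl) | exact rfl⟩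
private noncomputable def _root_.Cfsg.Agent.LsF.ff12b1b_4 : {f // @Cfsg.Agent.H357.EP.OE.run = f} := ⟨_, by first | (delta Cfsg.Agent.H357.EP.OE.run; rewrite [Cfsg.Agent.LsF.ff12b1b_0.2, Cfsg.Agent.LsF.ff12b1b_3.2]; exact rfl) | exact rfl⟩
private noncomputable def _root_.Cfsg.Agent.LsF.ff12b1b_5 : {f // @Cfsg.Agent.H357.EP.OE.pf = f} := ⟨_, by first | (delta Cfsg.Agent.H357.EP.OE.pf; rewrite [Cfsg.Agent.LsF.zadd_pat, Cfsg.Agent.LsF.zmul_pat]; exact rfl) | exact rfl⟩
set_option maxRecDepth 100000 in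
theorem tab_path : ∀ a : Fin 6 → Z, a ≠ 0 → (path.getD (cod a) []).foldl act a =
    if pf a = 0 then ![1, 0, 0, 0, 0, 0] else ![1, 0, 0, 0, 0, 1] := by
  have h1 : ∀ (l : List (Fin 4 × Fin 4)) (n : ℕ), l.foldl act' (dc n) = dc (run l n) := by
    intro l
    induction l with
    | nil => exact fun _ => rfl
    | cons p l ih =>
      have e : ∀ k, Nat.rec (run l 0) (fun m _ => run l (Nat.succ m)) k = run l k := fun k => by cases k <;> rfl
      exact fun n => ((congrArg (l.foldl act') (dc_cod _).1.symm).trans (ih _)).trans (congrArg dc (e _).symm)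
  have h2 : ∀ n < 64, dc n ≠ 0 → dc (run (path.getD n []) n) =
      if pf (dc n) = 0 then ![1, 0, 0, 0, 0, 0] else ![1, 0, 0, 0, 0, 1] := by (refine of_decide_eq_true ?_; (try (rewrite [Cfsg.Agent.LsF.dPiF_pat, Cfsg.Agent.LsF.ff12b1b_4.2, Cfsg.Agent.LsF.ff12b1b_5.2, Cfsg.Agent.LsF.vecCons_eq, Cfsg.Agent.LsF.zdecEq_eq, Cfsg.Agent.LsF.getD_eq, Cfsg.Agent.LsF.dNot_eq, Cfsg.Agent.LsF.dBallLT_eq, Cfsg.Agent.LsF.dAllP_eq, Cfsg.Agent.LsF.ite_eq, Cfsg.Agent.LsF.decide_eq])); decide +kernel)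
  intro a ha
  have h3 := h2 (cod a) (dc_cod a).2
  rw [← h1, (dc_cod a).1] at h3
  exact act_eq ▸ h3 ha

theorem tab_ne : ∀ n < 64, ∀ p ∈ path.getD n [], p.1 ≠ p.2 := by (refine of_decide_eq_true ?_; (try (rewrite [Cfsg.Agent.LsF.dMemP_pat, Cfsg.Agent.LsF.dProdEq_eq, Cfsg.Agent.LsF.finFintype_eq, Cfsg.Agent.LsF.prodFintype_eq, Cfsg.Agent.LsF.dForall_eq, Cfsg.Agent.LsF.getD_eq, Cfsg.Agent.LsF.dNot_eq, Cfsg.Agent.LsF.dFinEq_eq, Cfsg.Agent.LsF.dBallLT_eq, Cfsg.Agent.LsF.dAllP_eq, Cfsg.Agent.LsF.decide_eq])); decide +kernel)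

theorem cod_lt : ∀ a : Fin 6 → Z, cod a < 64 := fun a => (dc_cod a).2

private noncomputable def _root_.Cfsg.Agent.LsF.ff12b1b_6 : {f // @Cfsg.Agent.H357.EP.OE.T = f} := ⟨_, by first | (delta Cfsg.Agent.H357.EP.OE.T; rewrite [Cfsg.Agent.LsF.zadd_pat, Cfsg.Agent.LsF.dAnd_eq, Cfsg.Agent.LsF.dFinEq_eq, Cfsg.Agent.LsF.ite_eq]; exact rfl) | exact rfl⟩
theorem tab_comm : ∀ i j : Fin 4, i ≠ j → ∃ k, k ≠ i ∧ k ≠ j ∧ T i k * T k j * (T i k * T k j) = T i j ∧
    T k j * T i k * (T k j * T i k) = T i j := by (refine of_decide_eq_true ?_; (try (rewrite [Cfsg.Agent.LsF.mmulF_pat, Cfsg.Agent.LsF.ff12b1b_6.2, Cfsg.Agent.LsF.zadd_pat, Cfsg.Agent.LsF.zmul_pat, Cfsg.Agent.LsF.zdecEq_eq, Cfsg.Agent.LsF.finFintype_eq, Cfsg.Agent.LsF.dMat_eq, Cfsg.Agent.LsF.zACM_pat, Cfsg.Agent.LsF.dAnd_eq, Cfsg.Agent.LsF.dNot_eq, Cfsg.Agent.LsF.dFinEq_eq, Cfsg.Agent.LsF.dForallFin_eq, Cfsg.Agent.LsF.dExistsFin_eq, Cfsg.Agent.LsF.dAllP_eq, Cfsg.Agent.LsF.decide_eq])); decide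 +kernel)

theorem tab_sq : ∀ i j : Fin 4, i ≠ j → T i j * T i j = 1 := by decide +kernel

theorem tab_move : ∀ a : Fin 6 → Z, a ≠ 0 → ∃ i j : Fin 4, i ≠ j ∧ act a (i, j) ≠ a := by
  have h : ∀ n < 64, dc n ≠ 0 → ∃ i j : Fin 4, i ≠ j ∧ act' (dc n) (i, j) ≠ dc n := by (refine of_decide_eq_true ?_; (try (rewrite [Cfsg.Agent.LsF.dPiF_pat, Cfsg.Agent.LsF.ff12b1b_3.2, Cfsg.Agent.LsF.zdecEq_eq, Cfsg.Agent.LsF.dAnd_eq, Cfsg.Agent.LsF.dNot_eq, Cfsg.Agent.LsF.dFinEq_eq, Cfsg.Agent.LsF.dBallLT_eq, Cfsg.Agent.LsF.dExistsFin_eq, Cfsg.Agent.LsF.dAllP_eq, Cfsg.Agent.LsF.decide_eq])); decide +kernel)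
  intro a
  have h1 := h (cod a) (dc_cod a).2
  rwa [(dc_cod a).1, ← act_eq] at h1

theorem tab_card : (Finset.univ.filter fun x : Multiplicative (Fin 6 → Z) => x ≠ 1 ∧ pf x.toAdd = 0).card = 35 ∧
    (Finset.univ.filter fun x : Multiplicative (Fin 6 → Z) => x ≠ 1 ∧ ¬ pf x.toAdd = 0).card = 28 := by
  decide +kernel

end OE

end Cfsg.Agent.H357.EP
end

-- part: H357/EP/O8
section
/-!
# S5745, the kill V27: the `2 ^ 6` of `Ω₈⁺(2)` (helper357)

* `not_inE6_o8` : `PΩ₈⁺(2)` does not embed into `E₆(q)`, `²E₆(q)`, `q` odd.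
-/

set_option autoImplicit false

namespace Cfsg.Agent.H357.EP

open Matrix
open scoped commutatorElement

namespace OE

section mat

variable (F : Type*) [Field F] [CharP F 2]

/-- the ring homomorphism -/
def io : Z →+* F := ZMod.castHom (dvd_refl 2) F

/-- the matrix of a Siegel element -/
def uA (A : M4) : Matrix (Fin 4 ⊕ Fin 4) (Fin 4 ⊕ Fin 4) F := fromBlocks 1 (A.map (io F)) 0 1

/-- the matrix of an element of the Levi subgroup -/
def dA (g : M4) : Matrix (Fin 4 ⊕ Fin 4) (Fin 4 ⊕ Fin 4) F := fromBlocks (g.map (io F)) 0 0 (gᵀ.map (io F))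

variable {F}

theorem map_mul' (A B : M4) : (A * B).map (io F) = A.map (io F) * B.map (io F) := Matrix.map_mul

theorem map_add' (A B : M4) : (A + B).map (io F) = A.map (io F) + B.map (io F) := Matrix.map_add _ (map_add _) _ _

theorem map_one' : (1 : M4).map (io F) = 1 := Matrix.map_one _ (map_zero _) (map_one _)

theorem map_inj' {A B : M4} (h : A.map (io F) = B.map (io F)) : A = B := by
  ext i j
  exact (io F).injective (congrFun (congrFun h i) j)

theorem uA_mul (A B : M4) : uA F A * uA F B = uA F (A + B) := by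
  unfold uA
  rw [fromBlocks_multiply, map_add']
  simp [add_comm]

theorem uA_zero : uA F 0 = 1 := by
  unfold uA
  rw [Matrix.map_zero _ (map_zero _), fromBlocks_one]

theorem uA_sq (A : M4) : uA F A * uA F A = 1 := by
  have h : A + A = 0 := by
    ext i j
    exact CharTwo.add_self_eq_zero _
  rw [uA_mul, h, uA_zero]

theorem dA_sq {g : M4} (hg : g * g = 1) : dA F g * dA F g = 1 := by
  have h : gᵀ * gᵀ = 1 := by rw [← Matrix.transpose_mul, hg, Matrix.transpose_one]
  unfold dA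
  rw [fromBlocks_multiply]
  simp only [Matrix.mul_zero, Matrix.zero_mul, add_zero, zero_add]
  rw [← map_mul', ← map_mul', hg, h, map_one', fromBlocks_one]

theorem dA_uA {g : M4} (hg : g * g = 1) (A : M4) : dA F g * uA F A * dA F g = uA F (g * A * gᵀ) := by
  have h : gᵀ * gᵀ = 1 := by rw [← Matrix.transpose_mul, hg, Matrix.transpose_one]
  unfold dA uA
  rw [fromBlocks_multiply, fromBlocks_multiply]
  simp only [Matrix.mul_zero, Matrix.zero_mul, add_zero, zero_add, mul_one]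
  rw [← map_mul', ← map_mul', ← map_mul', ← map_mul', hg, h, map_one']

theorem dA_comm {g h k : M4} (h1 : g * h * (g * h) = k) (h2 : h * g * (h * g) = k) :
    dA F g * dA F h * (dA F g * dA F h) = dA F k := by
  have h3 : gᵀ * hᵀ * (gᵀ * hᵀ) = kᵀ := by
    rw [← h2]
    simp only [Matrix.transpose_mul]
  unfold dA
  rw [fromBlocks_multiply, fromBlocks_multiply]
  simp only [Matrix.mul_zero, Matrix.zero_mul, add_zero, zero_add]
  rw [← map_mul', ← map_mul', ← map_mul', ← map_mul', h1, h3]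

theorem uA_form (a : Fin 6 → Z) (v : Fin 4 ⊕ Fin 4 → F) : quadFormPlus 4 F (uA F (al a) *ᵥ v) = quadFormPlus 4 F v := by
  have h2 : (2 : F) = 0 := CharTwo.two_eq_zero
  unfold quadFormPlus uA
  rw [fromBlocks_mulVec]
  simp only [Sum.elim_inl, Sum.elim_inr, Matrix.one_mulVec, Matrix.zero_mulVec, zero_add, Pi.add_apply,
    Function.comp_apply, Matrix.mulVec, dotProduct, Fin.sum_univ_four, Matrix.map_apply]
  simp only [al, Matrix.of_apply, Matrix.cons_val', Matrix.cons_val_zero, Matrix.cons_val_one, Matrix.cons_val,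
    map_zero, zero_mul, zero_add, add_zero]
  linear_combination (io F (a 0) * v (.inr 0) * v (.inr 1) + io F (a 1) * v (.inr 0) * v (.inr 2) +
    io F (a 2) * v (.inr 0) * v (.inr 3) + io F (a 3) * v (.inr 1) * v (.inr 2) +
    io F (a 4) * v (.inr 1) * v (.inr 3) + io F (a 5) * v (.inr 2) * v (.inr 3)) * h2

theorem dA_form {g : M4} (hg : g * g = 1) (v : Fin 4 ⊕ Fin 4 → F) :
    quadFormPlus 4 F (dA F g *ᵥ v) = quadFormPlus 4 F v := by
  have h : ∀ w : Fin 4 ⊕ Fin 4 → F, quadFormPlus 4 F w = (w ∘ Sum.inl) ⬝ᵥ (w ∘ Sum.inr) := fun w => rfl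
  rw [h, h]
  unfold dA
  rw [fromBlocks_mulVec]
  have e1 : (Sum.elim ((g.map (io F)) *ᵥ (v ∘ Sum.inl) + 0 *ᵥ (v ∘ Sum.inr))
    (0 *ᵥ (v ∘ Sum.inl) + (gᵀ.map (io F)) *ᵥ (v ∘ Sum.inr)) ∘ Sum.inl) = (g.map (io F)) *ᵥ (v ∘ Sum.inl) := by
    rw [Sum.elim_comp_inl, Matrix.zero_mulVec, add_zero]
  have e2 : (Sum.elim ((g.map (io F)) *ᵥ (v ∘ Sum.inl) + 0 *ᵥ (v ∘ Sum.inr))
    (0 *ᵥ (v ∘ Sum.inl) + (gᵀ.map (io F)) *ᵥ (v ∘ Sum.inr)) ∘ Sum.inr) = (gᵀ.map (io F)) *ᵥ (v ∘ Sum.inr) := by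
    rw [Sum.elim_comp_inr, Matrix.zero_mulVec, zero_add]
  rw [e1, e2, Matrix.dotProduct_mulVec]
  have e3 : gᵀ.map (io F) = (g.map (io F))ᵀ := rfl
  rw [e3, Matrix.vecMul_transpose, Matrix.mulVec_mulVec, ← map_mul', hg, map_one', Matrix.one_mulVec]

variable (F)

/-- the isometry `u` -/
def uI (a : Fin 6 → Z) : isometryGroup F (quadFormPlus 4 F) :=
  ⟨⟨uA F (al a), uA F (al a), uA_sq _, uA_sq _⟩, fun v _ => uA_form a v⟩

/-- the isometry `d` -/
def dI (g : M4) (hg : g * g = 1) : isometryGroup F (quadFormPlus 4 F) :=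
  ⟨⟨dA F g, dA F g, dA_sq hg, dA_sq hg⟩, fun v _ => dA_form hg v⟩

variable {F}

theorem al_add (a b : Fin 6 → Z) : al (a + b) = al a + al b := by
  ext i j
  (revert i j; simp only [al, _root_.Fin.forall_fin_succ, Fin.isValue, _root_.Pi.add_apply, _root_.Matrix.of_apply, _root_.Matrix.cons_val', _root_.Matrix.cons_val_fin_one, _root_.Matrix.add_apply, _root_.Matrix.cons_val_zero, _root_.Matrix.cons_val_succ, _root_.forall_const, _root_.add_zero, _root_.and_self, _root_.implies_true])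

theorem al_inj {a b : Fin 6 → Z} (h : al a = al b) : a = b := by
  funext k
  fin_cases k
  · simpa [al] using congrFun (congrFun h 0) 1
  · simpa [al] using congrFun (congrFun h 0) 2
  · simpa [al] using congrFun (congrFun h 0) 3
  · simpa [al] using congrFun (congrFun h 1) 2
  · simpa [al] using congrFun (congrFun h 1) 3
  · simpa [al] using congrFun (congrFun h 2) 3

theorem uI_mul (a b : Fin 6 → Z) : uI F a * uI F b = uI F (a + b) := by
  apply Subtype.ext
  apply Units.ext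
  show uA F (al a) * uA F (al b) = uA F (al (a + b))
  rw [uA_mul, al_add]

theorem uI_inv (a : Fin 6 → Z) : (uI F a)⁻¹ = uI F a := by
  apply Subtype.ext
  apply Units.ext
  rfl

theorem dI_inv {g : M4} (hg : g * g = 1) : (dI F g hg)⁻¹ = dI F g hg := by
  apply Subtype.ext
  apply Units.ext
  rfl

theorem uI_inj {a b : Fin 6 → Z} (h : uI F a = uI F b) : a = b := by
  have h1 : uA F (al a) = uA F (al b) := congrArg (fun x : isometryGroup F (quadFormPlus 4 F) =>
    ((x : GL (Fin 4 ⊕ Fin 4) F) : Matrix (Fin 4 ⊕ Fin 4) (Fin 4 ⊕ Fin 4) F)) h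
  unfold uA at h1
  rw [fromBlocks_inj] at h1
  exact al_inj (map_inj' h1.2.1)

theorem dI_uI {i j : Fin 4} (hij : i ≠ j) (a : Fin 6 → Z) :
    dI F (T i j) (tab_sq i j hij) * uI F a * (dI F (T i j) (tab_sq i j hij))⁻¹ = uI F (act a (i, j)) := by
  rw [dI_inv]
  apply Subtype.ext
  apply Units.ext
  show dA F (T i j) * uA F (al a) * dA F (T i j) = uA F (al (act a (i, j)))
  rw [dA_uA (tab_sq i j hij), tab_act a i j hij]

theorem dI_mem {i j : Fin 4} (hij : i ≠ j) : dI F (T i j) (tab_sq i j hij) ∈ Omega F (quadFormPlus 4 F) := by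
  obtain ⟨k, hki, hkj, h1, h2⟩ := tab_comm i j hij
  have h3 : dI F (T i j) (tab_sq i j hij) = ⁅dI F (T i k) (tab_sq i k hki.symm), dI F (T k j) (tab_sq k j hkj)⁆ := by
    rw [commutatorElement_def, dI_inv, dI_inv]
    apply Subtype.ext
    apply Units.ext
    show dA F (T i j) = dA F (T i k) * dA F (T k j) * dA F (T i k) * dA F (T k j)
    rw [Matrix.mul_assoc (dA F (T i k) * dA F (T k j)), dA_comm h1 h2]
  rw [h3]
  exact Subgroup.commutator_mem_commutator (Subgroup.mem_top _) (Subgroup.mem_top _)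

/-- a base element is in `Ω` -/
theorem uI_mem_of {i j : Fin 4} (hij : i ≠ j) {a b : Fin 6 → Z} (h : act b (i, j) + b = a) :
    uI F a ∈ Omega F (quadFormPlus 4 F) := by
  have h3 : uI F a = ⁅dI F (T i j) (tab_sq i j hij), uI F b⁆ := by
    rw [commutatorElement_def, dI_uI hij, uI_inv, uI_mul, h]
  rw [h3]
  exact Subgroup.commutator_mem_commutator (Subgroup.mem_top _) (Subgroup.mem_top _)

theorem base_zero : uI F ![1, 0, 0, 0, 0, 0] ∈ Omega F (quadFormPlus 4 F) :=
  uI_mem_of (i := 0) (j := 2) (by decide) (b := ![0, 0, 0, 1, 0, 0]) (by decide +kernel)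

theorem base_one : uI F ![1, 0, 0, 0, 0, 1] ∈ Omega F (quadFormPlus 4 F) := by
  have h1 : uI F ![0, 0, 0, 0, 0, 1] ∈ Omega F (quadFormPlus 4 F) :=
    uI_mem_of (i := 2) (j := 1) (by decide) (b := ![0, 0, 0, 0, 1, 0]) (by decide +kernel)
  have h2 : uI F ![1, 0, 0, 0, 0, 1] = uI F ![1, 0, 0, 0, 0, 0] * uI F ![0, 0, 0, 0, 0, 1] := by
    rw [uI_mul]
    congr 1
    decide
  rw [h2]
  exact mul_mem base_zero h1

theorem exists_conj (l : List (Fin 4 × Fin 4)) (hl : ∀ p ∈ l, p.1 ≠ p.2) (a : Fin 6 → Z) :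
    ∃ k ∈ Omega F (quadFormPlus 4 F), k * uI F a * k⁻¹ = uI F (l.foldl act a) := by
  induction l generalizing a with
  | nil => exact ⟨1, one_mem _, by simp only [_root_.one_mul, _root_.inv_one, _root_.mul_one, _root_.List.foldl_nil]⟩
  | cons p l ih =>
    obtain ⟨k, hk, hka⟩ := ih (fun p hp => hl p (List.mem_cons_of_mem _ hp)) (act a p)
    have hp := hl p List.mem_cons_self
    refine ⟨k * dI F (T p.1 p.2) (tab_sq _ _ hp), mul_mem hk (dI_mem hp), ?_⟩
    have h1 := dI_uI (F := F) hp a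
    rw [List.foldl_cons, ← hka, ← h1]
    group

/-- the base -/
def bs (a : Fin 6 → Z) : Fin 6 → Z := if pf a = 0 then ![1, 0, 0, 0, 0, 0] else ![1, 0, 0, 0, 0, 1]

theorem conj_base {a : Fin 6 → Z} (ha : a ≠ 0) :
    ∃ k ∈ Omega F (quadFormPlus 4 F), k * uI F a * k⁻¹ = uI F (bs a) := by
  obtain ⟨k, hk, h⟩ := exists_conj (F := F) (path.getD (cod a) []) (tab_ne _ (cod_lt a)) a
  rw [tab_path a ha] at h
  exact ⟨k, hk, h⟩

theorem bs_mem (a : Fin 6 → Z) : uI F (bs a) ∈ Omega F (quadFormPlus 4 F) := by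
  unfold bs
  split_ifs
  · exact base_zero
  · exact base_one

theorem uI_zero : uI F 0 = 1 := by
  apply Subtype.ext
  apply Units.ext
  show uA F (al 0) = 1
  rw [show al 0 = 0 from by decide +kernel, uA_zero]

theorem uI_mem (a : Fin 6 → Z) : uI F a ∈ Omega F (quadFormPlus 4 F) := by
  by_cases ha : a = 0
  · rw [ha, uI_zero]; exact one_mem _
  obtain ⟨k, hk, h⟩ := conj_base (F := F) ha
  have h1 : uI F a = k⁻¹ * uI F (bs a) * k := by rw [← h]; group
  rw [h1]
  exact mul_mem (mul_mem (inv_mem hk) (bs_mem a)) hk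

variable (F)

/-- the elementary abelian subgroup of `Ω` -/
def fO : Multiplicative (Fin 6 → Z) →* Omega F (quadFormPlus 4 F) :=
  MonoidHom.mk' (fun x => ⟨uI F x.toAdd, uI_mem _⟩) fun _ _ => Subtype.ext (uI_mul _ _).symm

variable {F}

theorem fO_conj {x : Multiplicative (Fin 6 → Z)} (hx : x ≠ 1) :
    IsConj (fO F (Multiplicative.ofAdd (bs x.toAdd))) (fO F x) := by
  obtain ⟨k, hk, h⟩ := conj_base (F := F) (a := x.toAdd) (fun e => hx (Multiplicative.toAdd.injective e))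
  apply IsConj.symm
  rw [isConj_iff]
  exact ⟨⟨k, hk⟩, Subtype.ext h⟩

theorem fO_center {x : Multiplicative (Fin 6 → Z)} (hx : fO F x ∈ Subgroup.center (Omega F (quadFormPlus 4 F))) :
    x = 1 := by
  by_contra hne
  obtain ⟨i, j, hij, h⟩ := tab_move x.toAdd (fun e => hne (Multiplicative.toAdd.injective e))
  apply h
  have h1 := Subgroup.mem_center_iff.1 hx ⟨_, dI_mem hij⟩
  have h2 : dI F (T i j) (tab_sq i j hij) * uI F x.toAdd = uI F x.toAdd * dI F (T i j) (tab_sq i j hij) :=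
    congrArg Subtype.val h1
  apply uI_inj (F := F)
  rw [← dI_uI hij, h2, mul_inv_cancel_right]

end mat

end OE

/-- **`Ω₈⁺(2)` does not embed into `E₆(q)`, `²E₆(q)`, `q` odd** -/
theorem not_inE6_o8 {F : Type*} [Field F] [CharP F 2] : ¬ InE6 (POmega F (quadFormPlus 4 F)) := by
  intro h
  have hinj : Function.Injective ((QuotientGroup.mk' (Subgroup.center (Omega F (quadFormPlus 4 F)))).comp (OE.fO F)) := by
    rw [injective_iff_map_eq_one]
    intro x hx
    exact OE.fO_center ((QuotientGroup.eq_one_iff _).1 hx)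
  obtain ⟨a, b, m, ha, hb, h1⟩ := h.sum_hom (A := Multiplicative (Fin 6 → OE.Z))
    (fun x => Multiplicative.toAdd.injective (funext fun i => CharTwo.add_self_eq_zero _)) _ hinj
    (fun x => OE.pf x.toAdd = 0)
    (u := QuotientGroup.mk' (Subgroup.center (Omega F (quadFormPlus 4 F)))
      (OE.fO F (Multiplicative.ofAdd ![1, 0, 0, 0, 0, 0])))
    (v := QuotientGroup.mk' (Subgroup.center (Omega F (quadFormPlus 4 F)))
      (OE.fO F (Multiplicative.ofAdd ![1, 0, 0, 0, 0, 1])))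
    (fun x hx hC => by
      have h2 := OE.fO_conj (F := F) hx
      rw [OE.bs, if_pos hC] at h2
      exact MonoidHom.map_isConj _ h2)
    (fun x hx hC => by
      have h2 := OE.fO_conj (F := F) hx
      rw [OE.bs, if_neg hC] at h2
      exact MonoidHom.map_isConj _ h2)
  have h3 : Fintype.card (Multiplicative (Fin 6 → OE.Z)) = 64 := by
    rw [Fintype.card_multiplicative, Fintype.card_fun, ZMod.card, Fintype.card_fin]
    norm_num
  rw [OE.tab_card.1, OE.tab_card.2, h3] at h1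
  rcases ha with rfl | rfl <;> rcases hb with rfl | rfl <;> push_cast at h1 <;> omega

end Cfsg.Agent.H357.EP
end

-- part: H545/EX/GFour
section
/-!
# S5745: `G₂(4)` is not a subgroup of `E₆(q)`, `²E₆(q)`, `F₄(q)`, `q` odd (helper545)

`E = X₁₀ X₁₁` (two long roots at 60 degrees) is elementary abelian of order 16 and all its involutions are conjugate
(`X₆`, `X₅` act on it as on the natural module of `SL₂(4)`), against `H357.EP.InE6.no_pure`.
-/

set_option autoImplicit false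
set_option linter.unusedSectionVars false

namespace Cfsg.Agent.H545.EX

open Cfsg Cfsg.Lie
open Cfsg.Agent.ChevalleyStructure.LaurentWord
open Cfsg.Agent.ChevalleyStructure.LaurentNH
open Cfsg.Agent.ClassificationK.GTwoChev Cfsg.Agent.ChevalleyStructure.SL2Hom

private noncomputable def _root_.Cfsg.Agent.LsF.ff12b1b_7 : {f // @Cfsg.Agent.ChevalleyStructure.LaurentWord.addTerm = f} := ⟨_, by first | (delta Cfsg.Agent.ChevalleyStructure.LaurentWord.addTerm List.brecOn List.brecOn.go Cfsg.Agent.ChevalleyStructure.LaurentWord.addTerm._f; rewrite [Cfsg.Agent.LsF.iadd_pat, Cfsg.Agent.LsF.instDecEq_eq, Cfsg.Agent.LsF.instIDecEq_eq, Cfsg.Agent.LsF.dAnd_eq, Cfsg.Agent.LsF.ite_eq]; (try delta Cfsg.Agent.ChevalleyStructure.LaurentWord.addTerm.match_1); (try delta List.casesOn); first | dsimp -zeta only | exact rfl) | exact rfl⟩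
private noncomputable def _root_.Cfsg.Agent.LsF.ff12b1b_8 : {f // @Cfsg.Agent.ChevalleyStructure.LaurentWord.subV = f} := ⟨_, by first | (delta Cfsg.Agent.ChevalleyStructure.LaurentWord.subV List.brecOn List.brecOn.go Cfsg.Agent.ChevalleyStructure.LaurentWord.subV._f; rewrite [Cfsg.Agent.LsF.ff12b1b_7.2, Cfsg.Agent.LsF.ineg_pat]; (try delta Cfsg.Agent.ChevalleyStructure.LaurentWord.addTerm.match_1); (try delta List.casesOn); first | dsimp -zeta only | exact rfl) | exact rfl⟩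
private noncomputable def _root_.Cfsg.Agent.LsF.ff12b1b_9 : {f // @Cfsg.Agent.ChevalleyStructure.LaurentWord.addCol = f} := ⟨_, by first | (delta Cfsg.Agent.ChevalleyStructure.LaurentWord.addCol List.brecOn List.brecOn.go Cfsg.Agent.ChevalleyStructure.LaurentWord.addCol._f; rewrite [Cfsg.Agent.LsF.ff12b1b_7.2, Cfsg.Agent.LsF.iadd_pat, Cfsg.Agent.LsF.imul_pat, Cfsg.Agent.LsF.icast_pat]; (try delta Cfsg.Agent.ChevalleyStructure.LaurentWord.addCol.match_1); (try delta List.casesOn); first | dsimp -zeta only | exact rfl) | exact rfl⟩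
private noncomputable def _root_.Cfsg.Agent.LsF.ff12b1b_10 : {f // @Cfsg.Agent.ChevalleyStructure.LaurentWord.applyX = f} := ⟨_, by first | (delta Cfsg.Agent.ChevalleyStructure.LaurentWord.applyX List.brecOn List.brecOn.go Cfsg.Agent.ChevalleyStructure.LaurentWord.applyX._f; rewrite [Cfsg.Agent.LsF.ff12b1b_9.2, Cfsg.Agent.LsF.decLt_eq, Cfsg.Agent.LsF.ite_eq]; (try delta Cfsg.Agent.ChevalleyStructure.LaurentWord.addTerm.match_1); (try delta List.casesOn); first | dsimp -zeta only | exact rfl) | exact rfl⟩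
private noncomputable def _root_.Cfsg.Agent.LsF.ff12b1b_11 : {f // @Cfsg.Agent.ChevalleyStructure.LaurentWord.applyW = f} := ⟨_, by first | (delta Cfsg.Agent.ChevalleyStructure.LaurentWord.applyW List.brecOn List.brecOn.go Cfsg.Agent.ChevalleyStructure.LaurentWord.applyW._f; rewrite [Cfsg.Agent.LsF.ff12b1b_10.2]; (try delta Cfsg.Agent.ChevalleyStructure.LaurentWord.applyW.match_1); (try delta List.casesOn); first | dsimp -zeta only | exact rfl) | exact rfl⟩
private noncomputable def _root_.Cfsg.Agent.LsF.ff12b1b_12 : {f // @Cfsg.Agent.ChevalleyStructure.LaurentWord.checkEq = f} := ⟨_, by first | (delta Cfsg.Agent.ChevalleyStructure.LaurentWord.checkEq; rewrite [Cfsg.Agent.LsF.ff12b1b_8.2, Cfsg.Agent.LsF.ff12b1b_11.2, Cfsg.Agent.LsF.and_eq, Cfsg.Agent.LsF.decLt_eq, Cfsg.Agent.LsF.all_eq, Cfsg.Agent.LsF.range_eq, Cfsg.Agent.LsF.isEmpty_eq, Cfsg.Agent.LsF.decide_eq]; exact rfl) | exact rfl⟩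
private noncomputable def _root_.Cfsg.Agent.LsF.ff12b1b_13 : {f // @Cfsg.Agent.ChevalleyStructure.LaurentWord.col = f} := ⟨_, by first | (delta Cfsg.Agent.ChevalleyStructure.LaurentWord.col; rewrite [Cfsg.Agent.LsF.nadd_pat, Cfsg.Agent.LsF.nsub_pat, Cfsg.Agent.LsF.ineg_pat, Cfsg.Agent.LsF.instDecEq_eq, Cfsg.Agent.LsF.decLt_eq, Cfsg.Agent.LsF.map_eq, Cfsg.Agent.LsF.flatMap_eq, Cfsg.Agent.LsF.filter_eq, Cfsg.Agent.LsF.range_eq, Cfsg.Agent.LsF.agetD_eq, Cfsg.Agent.LsF.zipIdx_eq, Cfsg.Agent.LsF.ite_eq, Cfsg.Agent.LsF.decide_eq]; exact rfl) | exact rfl⟩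
theorem ck_comm : (([(10,11),(6,11),(5,10)] : List (ℕ × ℕ)).all fun p =>
      checkEq 14 12 (col chevG2) [(p.1, 1, 1, 0), (p.2, 1, 0, 1)] [(p.2, 1, 0, 1), (p.1, 1, 1, 0)]) = true := by
  ((try (rewrite [Cfsg.Agent.LsF.ff12b1b_12.2, Cfsg.Agent.LsF.ff12b1b_13.2, Cfsg.Agent.LsF.all_eq])); decide +kernel)

theorem ck_six : checkEq 14 12 (col chevG2) [(6,1,1,0),(10,1,0,1)] [(10,1,0,1),(11,1,1,1),(6,1,1,0)] = true := by
  decide +kernel

theorem ck_five : checkEq 14 12 (col chevG2) [(5,1,1,0),(11,1,0,1)] [(11,1,0,1),(10,1,1,1),(5,1,1,0)] = true := by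
  decide +kernel

section

variable {F : Type*} [Field F]

/-- the root elements of the group -/
noncomputable def X (r : ℕ) (hr : r < chevG2.nroots) (t : F) : ↥(chevG2.group F) := ph r hr F (up t)

theorem mat_X (r : ℕ) (hr : r < chevG2.nroots) (t : F) : mat (X r hr t) = chevG2.x F r t := mat_up r hr t

theorem X_add (r : ℕ) (hr : r < chevG2.nroots) (t u : F) : X r hr (t + u) = X r hr t * X r hr u := by
  unfold X
  rw [← map_mul]
  congr 1
  apply Subtype.ext
  change (!![1, t + u; 0, 1] : Matrix (Fin 2) (Fin 2) F) = !![1, t; 0, 1] * !![1, u; 0, 1]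
  rw [Matrix.mul_fin_two]
  simp [add_comm]

theorem X_zero (r : ℕ) (hr : r < chevG2.nroots) : X r hr (0 : F) = 1 := by
  apply mat_injective
  rw [mat_X, mat_one]
  exact x_zero _ r

theorem X_eq_one {r : ℕ} {hr : r < chevG2.nroots} {t : F} (h : X r hr t = 1) : t = 0 := by
  have h1 := congrArg mat h
  rw [mat_X, mat_one] at h1
  exact Cfsg.Agent.ChevalleyStructure.Good.eq_zero_of_x_eq_one r hr
    (Cfsg.Agent.ChevalleyStructure.Good.goodAt_of_mem chevG2 (by simp) r hr) t h1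

theorem X_comm {r s : ℕ} (hr : r < chevG2.nroots) (hs : s < chevG2.nroots)
    (h : (r, s) ∈ ([(10,11),(6,11),(5,10)] : List (ℕ × ℕ))) (t u : F) : X r hr t * X s hs u = X s hs u * X r hr t := by
  apply mat_injective
  rw [mat_mul, mat_mul, mat_X, mat_X]
  exact x_comm_of_check chevG2 colsOK (List.all_eq_true.1 ck_comm _ h) t u

theorem h10 : 10 < chevG2.nroots := by decide
theorem h11 : 11 < chevG2.nroots := by decide
theorem h6 : 6 < chevG2.nroots := by decide
theorem h5 : 5 < chevG2.nroots := by decide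

local notation "xa" => X 10 h10
local notation "xb" => X 11 h11
local notation "xc" => X 6 h6
local notation "xd" => X 5 h5

theorem ab (t u : F) : xa t * xb u = xb u * xa t := X_comm _ _ (by decide) t u

theorem cb (t u : F) : xc t * xb u = xb u * xc t := X_comm _ _ (by decide) t u

theorem da (t u : F) : xd t * xa u = xa u * xd t := X_comm _ _ (by decide) t u

theorem ca (t u : F) : xc t * xa u = xa u * xb (t * u) * xc t := by
  by_cases ht : t = 0
  · rw [ht, zero_mul, X_zero, X_zero, one_mul, mul_one, mul_one]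
  by_cases hu : u = 0
  · rw [hu, mul_zero, X_zero, X_zero, one_mul, mul_one, one_mul]
  apply mat_injective
  have h1 := wordMat_eq_of_checkEq chevG2 colsOK ht hu ck_six
  simp only [evW, List.map_cons, List.map_nil, ChevalleyDatum.wordMat, List.prod_cons, List.prod_nil,
      mul_one, evM_u, evM_t] at h1
  rw [mat_mul, mat_mul, mat_mul, mat_X, mat_X, mat_X, h1, ← mul_assoc]
  congr 3
  simp [evM]

theorem db (t u : F) : xd t * xb u = xb u * xa (t * u) * xd t := by
  by_cases ht : t = 0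
  · rw [ht, zero_mul, X_zero, X_zero, one_mul, mul_one, mul_one]
  by_cases hu : u = 0
  · rw [hu, mul_zero, X_zero, X_zero, one_mul, mul_one, one_mul]
  apply mat_injective
  have h1 := wordMat_eq_of_checkEq chevG2 colsOK ht hu ck_five
  simp only [evW, List.map_cons, List.map_nil, ChevalleyDatum.wordMat, List.prod_cons, List.prod_nil,
      mul_one, evM_u, evM_t] at h1
  rw [mat_mul, mat_mul, mat_mul, mat_X, mat_X, mat_X, h1, ← mul_assoc]
  congr 3
  simp [evM]

theorem conj_c (u t s : F) : xc u * (xa t * xb s) * (xc u)⁻¹ = xa t * xb (s + u * t) := by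
  rw [mul_inv_eq_iff_eq_mul, ← mul_assoc, ca, mul_assoc (xa t * xb (u * t)), cb, ← mul_assoc, add_comm s, X_add,
    ← mul_assoc (xa t)]

theorem conj_d (u t s : F) : xd u * (xa t * xb s) * (xd u)⁻¹ = xa (t + u * s) * xb s := by
  rw [mul_inv_eq_iff_eq_mul, ab, ← mul_assoc, db, mul_assoc (xb s * xa (u * s)), da, ← mul_assoc, add_comm t, X_add,
    mul_assoc (xa (u * s)) (xa t), ab t s, ← mul_assoc (xa (u * s)), ab (u * s) s]

theorem isConj_one {t s : F} (h : ¬ (t = 0 ∧ s = 0)) : IsConj (xa (1 : F) * xb 1) (xa t * xb s) := by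
  have h1 : ∀ t s s' : F, t ≠ 0 → IsConj (xa t * xb s) (xa t * xb s') := by
    intro t s s' ht
    refine isConj_iff.2 ⟨xc ((s' - s) / t), ?_⟩
    rw [conj_c]
    congr 2
    field_simp
    ring
  have h2 : ∀ t t' s : F, s ≠ 0 → IsConj (xa t * xb s) (xa t' * xb s) := by
    intro t t' s hs
    refine isConj_iff.2 ⟨xd ((t' - t) / s), ?_⟩
    rw [conj_d]
    congr 2
    field_simp
    ring
  by_cases ht : t = 0
  · have hs : s ≠ 0 := fun hs => h ⟨ht, hs⟩
    exact (h1 1 1 s one_ne_zero).trans (h2 1 t s hs)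
  · exact (h2 1 t 1 one_ne_zero).trans (h1 t 1 s ht)

/-- the homomorphism onto `E` -/
noncomputable def eh (F : Type*) [Field F] : Multiplicative (F × F) →* ↥(chevG2.group F) where
  toFun p := xa (Multiplicative.toAdd p).1 * xb (Multiplicative.toAdd p).2
  map_one' := by
    show xa (0 : F) * xb 0 = 1
    rw [X_zero, X_zero, one_mul]
  map_mul' p p' := by
    obtain ⟨t, s⟩ := p
    obtain ⟨t', s'⟩ := p'
    show xa (t + t') * xb (s + s') = (xa t * xb s) * (xa t' * xb s')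
    rw [X_add, X_add, mul_assoc, mul_assoc, ← mul_assoc (xa t') (xb s), ab t' s]
    simp only [mul_assoc]

theorem eh_injective : Function.Injective (eh F) := by
  rw [injective_iff_map_eq_one]
  rintro ⟨t, s⟩ h
  change xa t * xb s = 1 at h
  have ht : t = 0 := by
    have h1 := conj_c 1 t s
    rw [h, mul_one, mul_inv_cancel, one_mul, X_add, ← mul_assoc, h, one_mul] at h1
    exact X_eq_one h1.symm
  rw [ht, X_zero, one_mul] at h
  have hs := X_eq_one h
  rw [ht, hs]
  rfl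

theorem eh_sq (h2 : (2 : F) = 0) (x : Multiplicative (F × F)) : eh F x * eh F x = 1 := by
  rw [← map_mul]
  have : x * x = 1 := by
    obtain ⟨t, s⟩ := x
    show Multiplicative.ofAdd ((t + t, s + s) : F × F) = 1
    rw [← two_mul, ← two_mul, h2, zero_mul, zero_mul]
    rfl
  rw [this, map_one]

theorem eh_conj (x : Multiplicative (F × F)) (h : eh F x ≠ 1) : IsConj (xa (1 : F) * xb 1) (eh F x) := by
  refine isConj_one fun hts => h ?_
  show X 10 h10 _ * X 11 h11 _ = 1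
  rw [hts.1, hts.2, X_zero, X_zero, one_mul]

theorem card_range [Fintype F] : Nat.card (eh F).range = Fintype.card F * Fintype.card F := by
  rw [← Nat.card_congr (MonoidHom.ofInjective (eh_injective (F := F))).toEquiv, Nat.card_congr Multiplicative.toAdd,
      Nat.card_prod, Nat.card_eq_fintype_card]

end

/-- **`G₂(4)` is not a subgroup of `E₆(q)`, `²E₆(q)`, `F₄(q)`, `q` odd** -/
theorem not_inE6 {F : Type*} [Field F] [Fintype F] (h4 : Fintype.card F = 4) {T : Type*} [Group T]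
    (e : T ≃* ↥(chevG2.group F)) (h : H357.EP.InE6 T) : False := by
  have h' : H357.EP.InE6 ↥(chevG2.group F) := h.mono e.symm.toMonoidHom e.symm.injective
  have h2 : (2 : F) = 0 := by
    have h0 : ((4 : ℕ) : F) = 0 := by
      rw [← h4]
      exact FiniteField.cast_card_eq_zero F
    have : (2 : F) * 2 = 0 := by
      rw [← h0]; norm_num
    exact mul_self_eq_zero.1 this
  refine h'.no_pure (eh F).range ?_ ?_ (u := X 10 h10 1 * X 11 h11 1) ?_
  · rintro _ ⟨x, rfl⟩
    exact eh_sq h2 x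
  · rw [card_range, h4]
  · rintro _ ⟨x, rfl⟩ hne
    exact eh_conj x hne

end Cfsg.Agent.H545.EX
end

-- part: H357/EP/V27
section
/-!
# S5745, the kill V27: rows (helper357)

* `inE6_f4` : subgroups of `F₄(q)`, `q` odd;
* `inE6_pi` : the factor `T` of a socle `N ≅ T ^ k`;
* `pow_le` : `|A| ^ k ≤ 64` for an elementary abelian 2-group `A → T` and `T ^ k ≤ E₆(q)`;
* `not_inE6_suz`, `no_fi22` : `Suz`, `Fi₂₂`;
* `row_suz`, `row_fi22` : the fields `e6_3_Suz`, `e6_3_Fi22` of `H805.EPX.Rows`.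
-/

set_option autoImplicit false

namespace Cfsg.Agent.H357.EP

open Cfsg Cfsg.Lie Matrix
open Cfsg.Agent.H209.EPX

section

variable {T : Type*} [Group T]

theorem inE6_f4 {F : Type} [Field F] [Fintype F] (ho : Odd (Fintype.card F)) (e : T ≃* chevF4.group F) : InE6 T :=
  ⟨F, inferInstance, inferInstance, ho, (H129.FE.toE6 F).comp e.toMonoidHom,
    (H129.FE.toE6_injective F).comp e.injective⟩

/-- the factor of a power -/
theorem InE6.of_pow {k : ℕ} (h : InE6 (Fin k → T)) (i : Fin k) : InE6 T := by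
  classical
  exact h.mono (MonoidHom.mulSingle (fun _ : Fin k => T) i) (Pi.mulSingle_injective (M := fun _ : Fin k => T) i)

/-- the socle `N ≅ T ^ k` -/
theorem InE6.pi {G : Type*} [Group G] (h : InE6 G) {N : Subgroup G} {k : ℕ} (e : N ≃* (Fin k → T)) :
    InE6 (Fin k → T) :=
  h.mono (N.subtype.comp e.symm.toMonoidHom) (Subtype.val_injective.comp e.symm.injective)

/-- the factor of the socle -/
theorem InE6.factor {G : Type*} [Group G] (h : InE6 G) {N : Subgroup G} {k : ℕ} (hk : 0 < k)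
    (e : N ≃* (Fin k → T)) : InE6 T := (h.pi e).of_pow ⟨0, hk⟩

/-- `|A| ≤ 64` for a homomorphism -/
theorem InE6.card_le_hom (h : InE6 T) {A : Type*} [Group A] [Finite A] (hA : ∀ x : A, x * x = 1) (f : A →* T)
    (hf : Function.Injective f) : Nat.card A ≤ 64 := by
  have : Finite f.range := Finite.of_equiv _ (MonoidHom.ofInjective hf).toEquiv
  rw [Nat.card_congr (MonoidHom.ofInjective hf).toEquiv]
  refine h.card_le f.range ?_
  rintro _ ⟨x, rfl⟩
  rw [← map_mul, hA, map_one]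

end

/-! ### Sporadic groups -/

/-- **`Suz` does not embed into `E₆(q)`, `²E₆(q)`, `F₄(q)`, `q` odd** -/
theorem not_inE6_suz {T : Type*} [Group T] (hT : Spor.IsoSuz T) : ¬ InE6 T := by
  intro h
  obtain ⟨e⟩ := hT
  obtain ⟨K, i1, i2, hK, ⟨e'⟩⟩ := Cfsg.Agent.S1679.result
  exact H545.EX.not_inE6 hK e' (h.mono (e.symm.toMonoidHom.comp (Subgroup.subtype _))
    (e.symm.injective.comp Subtype.val_injective))

section three

open Cfsg.Agent.ChevalleyStructure.E6Min Cfsg.Agent.ChevalleyStructure.E6Min.Tables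
  Cfsg.Agent.ChevalleyStructure.E6Min.Basic Cfsg.Agent.ChevalleyStructure.E6Min.Adjoint

theorem ad_injective {F : Type} [Field F] [CharP F 3] : Function.Injective (ad F) := by
  rw [injective_iff_map_eq_one]
  intro z hz
  have h1 := H689.scalar_of_comm (g := ((z : GL I27 F) : Matrix I27 I27 F))
    fun r hr => comm_B_of_ker hz (Sum.inr ⟨r, hr⟩)
  obtain ⟨c, hc⟩ : ∃ c : F, c = ((z : GL I27 F) : Matrix I27 I27 F) (dec 0) (dec 0) := ⟨_, rfl⟩
  rw [← hc] at h1
  have h3 := (H318.Four.RowE6.ker3 F z hz).2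
  have h4 : ((z ^ 3 : Zgrp F) : GL I27 F) = (z : GL I27 F) ^ 3 := rfl
  have h5 : ((z : GL I27 F) : Matrix I27 I27 F) ^ 3 = 1 := by
    rw [← Units.val_pow_eq_pow_val, ← h4, h3]
    rfl
  rw [h1, Matrix.diagonal_pow, ← Matrix.diagonal_one] at h5
  have h6 : c ^ 3 = 1 := congrFun (Matrix.diagonal_injective h5) (dec 0)
  have h7 : c = 1 := by
    have h8 : (c - 1) ^ 3 = 0 := by rw [sub_pow_char, h6, one_pow, sub_self]
    exact sub_eq_zero.1 (pow_eq_zero_iff (by norm_num) |>.1 h8)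
  apply Subtype.ext
  apply Units.ext
  rw [h1, h7]
  exact Matrix.diagonal_one

/-- a simple group whose nontrivial representations have degree at least `28` is not a subgroup of `E₆(3 ^ a)` -/
theorem no_ls {T : Type} [Group T] [Finite T] [IsSimpleGroup T] (hnc : ∃ a b : T, a * b ≠ b * a) {r : ℕ}
    (hls : H203.LS.LS.{0, 0, 0} r 28 T) {F : Type} [Field F] [CharP F 3] (hr : (r : F) ≠ 0) (f : T →* chevE6.group F)
    (hf : Function.Injective f) : False := by
  classical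
  let g : T →* Zgrp F := (MulEquiv.ofBijective (ad F) ⟨ad_injective, ad_surjective⟩).symm.toMonoidHom.comp f
  have hg : Function.Injective g :=
    (MulEquiv.ofBijective (ad F) ⟨ad_injective, ad_surjective⟩).symm.injective.comp hf
  let E : GL I27 F →* GL (Fin 27) F :=
    Units.map ((Matrix.reindexAlgEquiv F F (Fintype.equivFinOfCardEq card_I27) :
      Matrix I27 I27 F ≃ₐ[F] _) : Matrix I27 I27 F →* _)
  have hE : Function.Injective E :=
    Units.map_injective (Matrix.reindexAlgEquiv F F (Fintype.equivFinOfCardEq card_I27)).injective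
  let ρ : T →* GL (Fin 27) F := (E.comp (Zgrp F).subtype).comp g
  have hρ : Function.Injective ρ := (hE.comp Subtype.val_injective).comp hg
  have hcomm : commutator T = ⊤ := by
    rcases IsSimpleGroup.eq_bot_or_eq_top_of_normal (commutator T) inferInstance with h | h
    · exfalso
      obtain ⟨a, b, hab⟩ := hnc
      apply hab
      have h1 := (commutator_eq_bot_iff_center_eq_top T).1 h
      exact (Subgroup.mem_center_iff.1 (h1 ▸ Subgroup.mem_top b) a)
    · exact h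
  have h1 := hls T (MonoidHom.id T) Function.surjective_id (by
    intro x hx
    rw [MonoidHom.mem_ker, MonoidHom.id_apply] at hx
    rw [hx]
    exact one_mem _) hcomm F hr 27 ρ (by
    intro h
    obtain ⟨a, b, hab⟩ := hnc
    apply hab
    have h2 : ∀ x y : T, x = y := fun x y => hρ (by rw [h]; rfl)
    exact h2 _ _)
  omega

end three

/-- `Fi₂₂` is not a subgroup of `E₆(3 ^ a)` -/
theorem no_fi22 {F : Type} [Field F] [CharP F 3] {T : Type} [Group T] [Finite T] [IsSimpleGroup T]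
    (hnc : ∃ a b : T, a * b ≠ b * a) (hT : Spor.IsoFi22 T) (f : T →* chevE6.group F) (hf : Function.Injective f) :
    False := by
  obtain ⟨e⟩ := hT
  have : IsSimpleGroup Spor.Fi22 := by
    have : Nontrivial Spor.Fi22 := e.symm.toEquiv.nontrivial
    exact IsSimpleGroup.isSimpleGroup_of_surjective e.toMonoidHom e.surjective
  have : Finite Spor.Fi22 := Finite.of_equiv _ e.toEquiv
  have hnc' : ∃ g h : Spor.Fi22, g * h ≠ h * g := by
    obtain ⟨a, b, hab⟩ := hnc
    refine ⟨e a, e b, fun h => hab (e.injective ?_)⟩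
    rw [map_mul, map_mul, h]
  have h2 : ((2 : ℕ) : F) ≠ 0 := by
    intro h
    have := (CharP.cast_eq_zero_iff F 3 2).1 h
    omega
  exact no_ls hnc' (H806.Ls.fi22_ls_two hnc') h2 (f.comp e.symm.toMonoidHom) (hf.comp e.symm.injective)

open Cfsg.Agent.H805.EPX

theorem row_suz (F : Type) [Field F] [Fintype F] [IsSimpleGroup ↥(Lie.chevE6.group F)] (hF : Fintype.card F = 3) :
    NoRow (fun T _ => Spor.IsoSuz T) ↥(Lie.chevE6.group F) := by
  intro H N T _ e _ hT
  exact not_inE6_suz hT ((inE6 (F := F) (by rw [hF]; decide) (MulEquiv.refl _)).factor one_pos e)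

theorem row_fi22 (F : Type) [Field F] [Fintype F] [IsSimpleGroup ↥(Lie.chevE6.group F)] (hF : Fintype.card F = 3) :
    NoRow (fun T _ => Spor.IsoFi22 T) ↥(Lie.chevE6.group F) := by
  intro H N T _ e h hT
  have h3 : CharP F 3 := by
    have := CharP.exists F
    obtain ⟨p, hp⟩ := this
    have h0 : ((3 : ℕ) : F) = 0 := by rw [← hF]; exact Nat.cast_card_eq_zero F
    have hp3 : p ∣ 3 := (CharP.cast_eq_zero_iff F p 3).1 h0
    rcases (Nat.dvd_prime Nat.prime_three).1 hp3 with rfl | rfl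
    · exact absurd (CharP.char_is_prime F 1) (by norm_num)
    · exact hp
  classical
  let f : T →* ↥(Lie.chevE6.group F) := (N.subtype.comp e.symm.toMonoidHom).comp
    (MonoidHom.mulSingle (fun _ : Fin 1 => T) 0)
  have hf : Function.Injective f :=
    (Subtype.val_injective.comp e.symm.injective).comp (Pi.mulSingle_injective (M := fun _ : Fin 1 => T) 0)
  have : IsSimpleGroup T := h.simple
  have : Finite T := Finite.of_injective f hf
  exact no_fi22 h.nab hT f hf

end Cfsg.Agent.H357.EP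
end

private theorem dce_8b495f4287d5 : _root_.True := by
  try have : _root_.True := by simp only [_root_.Cfsg.Agent.H357.EP.Bm.eq_1]
  try have : _root_.True := by simp only [_root_.Cfsg.Agent.H357.EP.OE.al.eq_1]
  try have : _root_.True := by simp only [_root_.Cfsg.Agent.H357.EP.OE.io.congr_simp]
  try have : _root_.True := by simp only [_root_.Cfsg.Agent.H545.EX.X.congr_simp]
  try have : _root_.True := by simp only [_root_.Cfsg.Agent.H357.EP.hm.eq_1]
  try have : _root_.True := by simp only [_root_.Cfsg.Agent.H357.EP.OE.dI.congr_simp]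
  try have : _root_.True := by simp only [_root_.Cfsg.Agent.H357.EP.OE.bs.eq_1]
  try have : _root_.True := by simp only [_root_.Cfsg.Agent.H357.EP.OE.uI.congr_simp]
  try have : _root_.True := by simp only [_root_.Cfsg.Agent.H357.EP.um.eq_1]
  exact _root_.True.intro
end
end
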